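import Mathlib
import Cfsg.Agent.CIT.F9
import Cfsg.Agent.Perm.Conj
import Cfsg.Agent.Inv.PSL2Syl

/-! Groups in which non-cyclic subgroups contain their centralisers. -/

set_option autoImplicit false

namespace Cfsg.Agent.CIT.F

open Subgroup
open scoped Pointwise

universe u

variable {G : Type*} [Group G] [Finite G]

theorem exists_nci [IsSimpleGroup G] (hn : ¬ IsMulCommutative G) {t : G} (ht : orderOf t = 2) :
    ∃ s, s ∈ GW.nci t ∧ IsConj t s := by
  by_contra h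
  push Not at h
  have h1 : Cfsg.IsIsolatedInvolution t := ⟨ht, fun g hg => by
    by_contra h2
    exact h _ ⟨by rw [← ht]; exact (MulAut.conj g).orderOf_eq t, hg.symm.eq, h2⟩
      (isConj_iff.2 ⟨g, rfl⟩)⟩
  have h2 : t ∈ center G := mem_center_iff.2 fun g =>
    (Inv.zstar_commute (oddCore_simple hn) h1 g).symm.eq
  rcases Subgroup.Normal.eq_bot_or_eq_top (inferInstance : (center G).Normal) with h3 | h3
  · rw [h3, mem_bot] at h2
    rw [h2, orderOf_one] at ht
    omega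
  · exact hn ⟨⟨fun a b => mem_center_iff.1 (h3 ▸ mem_top b) a⟩⟩

theorem count_four {P : Subgroup G} [hN : P.Normal] (hP : IsPGroup 2 P) {u v x : G}
    (hu : orderOf u = 2) (huP : u ∈ P) (h4 : Nat.card (centralizer ({u} : Set G)) ≤ 4)
    (h3 : 3 ≤ Nat.card P) (hK : ∀ a, IsConj u a → a * u = u * a → a = u ∨ a = v)
    (hx : Odd (orderOf x)) : x = 1 := by
  haveI : Fact (Nat.Prime 2) := ⟨Nat.prime_two⟩
  by_contra hx1
  obtain ⟨k, hk⟩ := IsPGroup.iff_card.1 hP
  have h1 : orderOf x * Nat.card P ∣ Nat.card G :=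
    Nat.Coprime.mul_dvd_of_dvd_of_dvd (hk ▸ coprime_two_pow (Nat.odd_iff.1 hx) k)
      (orderOf_dvd_natCard x) (card_subgroup_dvd_card P)
  have h2 : 3 ≤ orderOf x := by
    have := orderOf_eq_one_iff.not.2 hx1
    obtain ⟨c, hc⟩ := hx
    omega
  have h5 : 3 * Nat.card P ≤ Nat.card G :=
    (Nat.mul_le_mul_right _ h2).trans (Nat.le_of_dvd Nat.card_pos h1)
  have h6 := Perm.ncard_conj_mul_card_centralizer u
  set K : Set G := {y | IsConj u y} with hKd
  have h7 : Nat.card G ≤ K.ncard * 4 := h6 ▸ Nat.mul_le_mul_left _ h4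
  have hKP : ∀ a ∈ K, a ∈ P := fun a ha => by
    obtain ⟨c, rfl⟩ := isConj_iff.1 ha
    exact hN.conj_mem _ huP _
  have hK2 : ∀ a ∈ K, a * a = 1 := fun a ha => by
    obtain ⟨c, rfl⟩ := isConj_iff.1 ha
    rw [show c * u * c⁻¹ * (c * u * c⁻¹) = c * (u * u) * c⁻¹ by group, mul_self_of_two hu]
    group
  have h8 : ((fun a => u * a) '' K).ncard = K.ncard :=
    Set.ncard_image_of_injective _ (mul_right_injective u)
  have h9 : (K ∪ (fun a => u * a) '' K).ncard ≤ Nat.card P := by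
    rw [← SetLike.coe_sort_coe, Nat.card_coe_set_eq]
    refine Set.ncard_le_ncard ?_
    rintro a (ha | ⟨b, hb, rfl⟩)
    · exact hKP a ha
    · exact mul_mem huP (hKP b hb)
  have h10 : (K ∩ (fun a => u * a) '' K).ncard ≤ 1 := by
    rw [← Set.ncard_singleton v]
    refine Set.ncard_le_ncard ?_
    rintro _ ⟨ha, b, hb, rfl⟩
    have h11 := Inv.commute_of_mul_self (mul_self_of_two hu) (hK2 b hb) (hK2 _ ha)
    refine (hK _ ha ?_).resolve_left fun h => ?_
    · show u * b * u = u * (u * b)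
      rw [mul_assoc, h11.eq]
    · have h12 : b = 1 := by simpa using h
      rw [h12] at hb
      have h13 : u = 1 := isConj_one_left.1 hb
      rw [h13, orderOf_one] at hu
      omega
  have h11 := Set.ncard_union_add_ncard_inter K ((fun a => u * a) '' K)
  omega

/-- every non-cyclic subgroup contains its centraliser -/
def NCC (G : Type*) [Group G] : Prop :=
  ∀ H : Subgroup G, ¬ IsCyclic H → centralizer (H : Set G) ≤ H

omit [Finite G] in
theorem NCC.four (h : NCC G) {t s : G} (ht : orderOf t = 2) (hs : s ∈ GW.nci t) :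
    GW.cz t ⊓ GW.cz s ≤ GW.four t s := by
  rw [← GW.centralizer_four]
  haveI := GW.four_klein ht hs
  exact h _ IsKleinFour.not_isCyclic

theorem NCC.mem_core (h : NCC G) {t : G} (ht : orderOf t = 2) (s : GW.cz t)
    (hs : (s : G) ∈ GW.nci t) : s ∈ Cfsg.pCore 2 (GW.cz t) := by
  by_contra h1
  obtain ⟨x, hx⟩ := exists_iv (by rw [← orderOf_coe]; exact hs.1) h1
  have h2 : (s : G) * x * (s : G)⁻¹ = (x : G)⁻¹ := congrArg Subtype.val hx.inv
  have h3 : Odd (orderOf (x : G)) := by rw [orderOf_coe]; exact hx.odd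
  have h4 : ¬ Commute (s : G) x := fun hc => by
    rw [hc.eq, mul_inv_cancel_right] at h2
    have h5 : orderOf (x : G) ∣ 2 := orderOf_dvd_of_pow_eq_one (by
      rw [sq]; nth_rewrite 1 [h2]; exact inv_mul_cancel _)
    have h6 := odd_dvd_two_pow (k := 1) h3 h5
    exact hx.ne (Subtype.ext (orderOf_eq_one_iff.1 h6))
  have h5 : t ∈ zpowers (x : G) ⊔ zpowers (s : G) := by
    refine h _ (fun hc => h4 ?_) ?_
    · letI := hc.commGroup
      exact congrArg Subtype.val (mul_comm (⟨s, mem_sup_right (mem_zpowers _)⟩ :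
        (zpowers (x : G) ⊔ zpowers (s : G) : Subgroup G)) ⟨x, mem_sup_left (mem_zpowers _)⟩)
    · intro g hg
      have : zpowers (x : G) ⊔ zpowers (s : G) ≤ GW.cz t :=
        sup_le (zpowers_le_of_mem x.2) (zpowers_le_of_mem s.2)
      exact GW.mem_cz.1 (this hg)
  have h6 : zpowers (s : G) ≤ normalizer (zpowers (x : G) : Set G) := by
    refine zpowers_le_of_mem (mem_normalizer_fintype fun a ha => ?_)
    obtain ⟨k, rfl⟩ := mem_zpowers_iff.1 ha
    rw [← conj_zpow, h2]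
    exact zpow_mem (inv_mem (mem_zpowers _)) _
  rw [← SetLike.mem_coe, coe_mul_of_right_le_normalizer_left _ _ h6] at h5
  obtain ⟨a, ha, b, hb, hab⟩ := h5
  have h7 : b = 1 ∨ b = s := by
    obtain ⟨k, rfl⟩ := mem_zpowers_iff.1 hb
    rw [← zpow_mod_orderOf, hs.1]
    rcases Int.emod_two_eq_zero_or_one k with h8 | h8
    · left; simp [h8]
    · right; simp [h8]
  rcases h7 with rfl | rfl
  · have h8 : t = a := by simpa using hab.symm
    have h9 := odd_dvd_two_pow (k := 1) (Odd.of_dvd_nat h3 (orderOf_dvd_of_mem_zpowers ha))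
      (by rw [← h8, ht]; rfl)
    rw [← h8, ht] at h9
    omega
  · have h8 : (s : G) = a⁻¹ * t := eq_inv_mul_of_mul_eq hab
    refine h4 ?_
    rw [h8]
    obtain ⟨k, rfl⟩ := mem_zpowers_iff.1 ha
    exact ((Commute.refl _).zpow_left k).inv_left.mul_left (GW.mem_cz.1 x.2).symm

theorem NCC.ord2 [IsSimpleGroup G] (h : NCC G) (hn : ¬ IsMulCommutative G) : Ord2 G := by
  refine ord2_of_no fun r hr h2 g hg => ?_
  have ht : orderOf (g ^ r) = 2 := by
    rw [orderOf_pow' _ hr.ne_zero, hg, Nat.gcd_mul_left_left, Nat.mul_div_cancel _ hr.pos]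
  have hx : orderOf (g ^ 2) = r := by
    rw [orderOf_pow' _ two_ne_zero, hg, Nat.gcd_mul_right_left, Nat.mul_div_cancel_left _ two_pos]
  have hxt : g ^ 2 ∈ GW.cz (g ^ r) := GW.mem_cz.2 (Commute.pow_pow_self g 2 r).eq
  generalize g ^ r = t at ht hxt
  obtain ⟨s, hs, -⟩ := exists_nci hn ht
  have hs' := GW.nci_mul ht hs
  have h3 : (GW.four t s).subgroupOf (GW.cz t) ≤ Cfsg.pCore 2 (GW.cz t) := fun a ha => by
    have h4 := h.mem_core ht ⟨s, GW.nci_cz hs⟩ hs
    have h5 := h.mem_core ht ⟨t * s, GW.nci_cz hs'⟩ hs'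
    rcases (GW.mem_four ht hs).1 (mem_subgroupOf.1 ha) with h6 | h6 | h6 | h6
    · rw [show a = 1 from Subtype.ext h6]; exact one_mem _
    · rw [show a = ⟨t * s, GW.nci_cz hs'⟩ * ⟨s, GW.nci_cz hs⟩ from Subtype.ext (by
        rw [h6]; show t = t * s * s; rw [mul_assoc, GW.nci_sq hs, mul_one])]
      exact mul_mem h5 h4
    · rw [show a = ⟨s, GW.nci_cz hs⟩ from Subtype.ext h6]; exact h4
    · rw [show a = ⟨t * s, GW.nci_cz hs'⟩ from Subtype.ext h6]; exact h5
  have h4 : Nat.card ((GW.four t s).subgroupOf (GW.cz t)) = 4 := by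
    rw [Nat.card_congr (subgroupOfEquivOfLe (GW.four_le_cz hs)).toEquiv]
    exact (GW.four_klein ht hs).card_four
  have h5 : ∀ a : GW.cz t, a * ⟨s, GW.nci_cz hs⟩ = ⟨s, GW.nci_cz hs⟩ * a →
      (a : G) ∈ GW.four t s := fun a ha =>
    h.four ht hs ⟨a.2, GW.mem_cz.2 (congrArg Subtype.val ha)⟩
  have h6 := count_four (P := Cfsg.pCore 2 (GW.cz t)) (Core.pCore_isPGroup 2)
    (u := ⟨s, GW.nci_cz hs⟩) (v := ⟨t * s, GW.nci_cz hs'⟩) (x := ⟨g ^ 2, hxt⟩)
    (by rw [← orderOf_coe]; exact hs.1) (h.mem_core ht _ hs)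
    (h4 ▸ card_le_of_le fun a ha => mem_subgroupOf.2 (h5 a (mem_centralizer_singleton_iff.1 ha)))
    (by have := card_le_of_le h3; omega) (fun a ha hc => ?_)
    (by rw [← orderOf_coe]; show Odd (orderOf (g ^ 2)); rw [hx]; exact hr.odd_of_ne_two h2)
  · have h7 : g ^ 2 = 1 := congrArg Subtype.val h6
    rw [h7, orderOf_one] at hx
    exact hr.ne_one hx.symm
  · obtain ⟨c, rfl⟩ := isConj_iff.1 ha
    have h7 := GW.conj_nci_of_cz hs c.2
    rcases (GW.mem_four ht hs).1 (h5 _ hc) with h8 | h8 | h8 | h8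
    · exact absurd h8 (Ben.sq_of_two h7.1).1
    · exact absurd h8 h7.2.2
    · exact Or.inl (Subtype.ext h8)
    · exact Or.inr (Subtype.ext h8)

theorem NCC.dihSyl [IsSimpleGroup G] (h : NCC G) (hn : ¬ IsMulCommutative G) : GW.DihSyl G := by
  haveI : Fact (Nat.Prime 2) := ⟨Nat.prime_two⟩
  obtain ⟨t, ht⟩ := exists_two_of_ns (not_solv_of_simple hn)
  obtain ⟨s, hs, -⟩ := exists_nci hn ht
  obtain ⟨T, hT⟩ := (GW.four_pgroup ht hs).exists_le_sylow
  obtain ⟨z, hz, hz2, hzc⟩ := Dih.exists_central_of_isPGroup T.isPGroup' (fun h1 => by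
    have := hT (GW.left_mem_four t s)
    rw [h1, mem_bot] at this
    exact (Ben.sq_of_two ht).1 this)
  obtain ⟨b, hb, hb1, hbz⟩ := Inv.four_exists_ne (GW.four_klein ht hs) z
  have hb2 := Inv.four_two (GW.four_klein ht hs) hb hb1
  have hb3 : b ∈ GW.nci z := ⟨hb2, (hzc b (hT hb)).symm, hbz⟩
  refine dihSyl_of_four hn (h.ord2 hn) T ⟨b, hT hb⟩ (by rw [← orderOf_coe]; exact hb2) ?_
  have h1 : GW.four z b ≤ T := GW.four_le.2 ⟨hz, hT hb⟩
  have h2 : centralizer ({⟨b, hT hb⟩} : Set T) = (GW.four z b).subgroupOf T := by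
    ext a
    rw [mem_centralizer_singleton_iff, mem_subgroupOf]
    exact ⟨fun ha => h.four hz2 hb3 ⟨GW.mem_cz.2 (hzc a a.2).symm,
      GW.mem_cz.2 (congrArg Subtype.val ha)⟩,
      fun ha => Subtype.ext (GW.mem_cz.1 (GW.four_le_cz' hb3 ha))⟩
  rw [h2, Nat.card_congr (subgroupOfEquivOfLe h1).toEquiv]
  exact (GW.four_klein hz2 hb3).card_four

theorem orderOf_mul_of_cent {x y : G} {r s : ℕ} (hx : orderOf x = r) (hy : orderOf y = s)
    (hc : y ∈ centralizer ({x} : Set G)) (hrs : r.Coprime s) : orderOf (x * y) = r * s := by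
  rw [← hx, ← hy] at hrs ⊢
  exact Commute.orderOf_mul_eq_mul_orderOf_of_coprime
    (mem_centralizer_singleton_iff.1 hc).symm hrs

/-- centralisers inside an isolated Hall subgroup -/
theorem card_cent_dvd {x : G} {r o m : ℕ} (hx : orderOf x = r) (hm : Nat.card G = o * m)
    (hr : r.Coprime m) (h : ∀ s, s.Prime → s ∣ m → ∀ g : G, orderOf g ≠ r * s) :
    Nat.card (centralizer ({x} : Set G)) ∣ o := by
  refine Nat.Coprime.dvd_of_dvd_mul_right (n := m) (Nat.coprime_of_dvd fun s hs h1 h2 => ?_)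
    (hm ▸ card_subgroup_dvd_card _)
  haveI := Fact.mk hs
  obtain ⟨y, hy⟩ := exists_prime_orderOf_dvd_card' s h1
  exact h s hs h2 _ (orderOf_mul_of_cent hx (by rw [orderOf_coe, hy]) y.2
    (hr.coprime_dvd_right h2))

theorem cyclic_cent {x y : G} {r m : ℕ} (hr : r.Prime) (hx : orderOf x = r)
    (hm : Nat.card G = orderOf y * m) (hrm : ¬ r ∣ m)
    (h : ∀ s, s.Prime → s ∣ m → ∀ g : G, orderOf g ≠ r * s) :
    IsCyclic (centralizer ({x} : Set G)) := by
  haveI := Fact.mk hr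
  have h0 := (orderOf_pos y).ne'
  have h1 : orderOf (y ^ (orderOf y / r ^ (orderOf y).factorization r)) =
      r ^ (orderOf y).factorization r := orderOf_pow_orderOf_div h0 (Nat.ordProj_dvd _ _)
  have h2 : m ≠ 0 := by
    rintro rfl
    exact hrm (dvd_zero r)
  let R : Sylow r G := Sylow.ofCard (zpowers (y ^ (orderOf y / r ^ (orderOf y).factorization r)))
    (by rw [Nat.card_zpowers, h1, hm, Nat.factorization_mul h0 h2,
      Finsupp.add_apply, Nat.factorization_eq_zero_of_not_dvd hrm, add_zero])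
  have hR : (R : Subgroup G) ≤ zpowers y := zpowers_le_of_mem (pow_mem (mem_zpowers y) _)
  obtain ⟨Q, hQ⟩ := (IsPGroup.of_card (p := r) (G := zpowers x) (n := 1)
    (by rw [Nat.card_zpowers, hx, pow_one])).exists_le_sylow
  obtain ⟨g, rfl⟩ := MulAction.exists_smul_eq G R Q
  have h3 : g⁻¹ * x * g ∈ zpowers y := by
    have := hQ (mem_zpowers x)
    rw [Sylow.coe_subgroup_smul, mem_pointwise_smul_iff_inv_smul_mem] at this
    exact hR (by simpa using this)
  have h4 : zpowers (g * y * g⁻¹) ≤ centralizer ({x} : Set G) := by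
    refine zpowers_le_of_mem (mem_centralizer_singleton_iff.2 ?_)
    obtain ⟨k, hk⟩ := mem_zpowers_iff.1 h3
    have h5 : x = (g * y * g⁻¹) ^ k := by rw [conj_zpow, hk]; group
    rw [h5]
    exact ((Commute.refl _).zpow_right k).eq
  have h5 := card_cent_dvd hx hm ((Nat.Prime.coprime_iff_not_dvd hr).2 hrm) h
  have h6 : zpowers (g * y * g⁻¹) = centralizer ({x} : Set G) :=
    eq_of_le_of_card_ge h4 (by
      rw [Nat.card_zpowers, show orderOf (g * y * g⁻¹) = orderOf y from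
        (MulAut.conj g).orderOf_eq y]
      exact Nat.le_of_dvd (orderOf_pos y) h5)
  rw [← h6]
  infer_instance

theorem mem_of_dih {S H : Subgroup G} {x y c : G} {n : ℕ} (hS : Inv.Dih S x y n) (hH : H ≤ S)
    (hc : ¬ IsCyclic H) (h1 : c ∈ S) (h2 : c ∈ centralizer (H : Set G)) : c ∈ H := by
  have h3 : ∀ a : G, ¬ H ≤ zpowers a := fun a ha => hc (isCyclic_of_le ha)
  obtain ⟨t, ht, ht'⟩ := SetLike.not_le_iff_exists.1 (h3 x)
  obtain ⟨b, hb, hb'⟩ := SetLike.not_le_iff_exists.1 (h3 t)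
  obtain ⟨a, ha, ha', ha1⟩ : ∃ a ∈ H, a ∈ zpowers x ∧ a ≠ 1 := by
    by_cases h4 : b ∈ zpowers x
    · exact ⟨b, hb, h4, fun h => hb' (h ▸ one_mem _)⟩
    · exact ⟨b * t⁻¹, mul_mem hb (inv_mem ht), hS.toMC.mul_inv_mem (hH hb) h4 (hH ht) ht',
        fun h => hb' (by rw [mul_inv_eq_one.1 h]; exact mem_zpowers t)⟩
  have h4 : 2 ∣ orderOf a := by
    have h5 := orderOf_dvd_of_mem_zpowers ha'
    rw [hS.ord] at h5
    obtain ⟨k, -, hk⟩ := (Nat.dvd_prime_pow Nat.prime_two).1 h5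
    rw [hk]
    refine dvd_pow_self 2 ?_
    rintro rfl
    exact ha1 (orderOf_eq_one_iff.1 hk)
  have hz : x ^ 2 ^ n ∈ H := by
    rw [← hS.toMC.eq_z (pow_mem ha' _) (orderOf_pow_orderOf_div (orderOf_pos a).ne' h4)]
    exact pow_mem ha _
  rcases (hS.toMC.change (hH ht) ht').mem_of_commute h1 (h2 t ht).symm with h | h | h | h <;>
    rw [h]
  · exact one_mem _
  · exact hz
  · exact ht
  · exact mul_mem hz ht

theorem ncc_of (h : Ord2 G)
    (hD : ∀ S : Sylow 2 G, ∃ m, 2 ≤ m ∧ Nonempty ((S : Subgroup G) ≃* DihedralGroup m))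
    (ho : ∀ x : G, (orderOf x).Prime → orderOf x ≠ 2 → IsCyclic (centralizer ({x} : Set G)) ∨
      Nat.card (centralizer ({x} : Set G)) ∣ orderOf x ^ 2) : NCC G := fun H hH c hc => by
  haveI : Fact (Nat.Prime 2) := ⟨Nat.prime_two⟩
  by_cases h1 : c = 1
  · rw [h1]; exact one_mem _
  obtain ⟨r, hr, h2⟩ := Nat.exists_prime_and_dvd (orderOf_eq_one_iff.not.2 h1)
  have h3 := orderOf_pow_orderOf_div (orderOf_pos c).ne' h2
  have h4 : H ≤ centralizer ({c ^ (orderOf c / r)} : Set G) := fun a ha =>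
    mem_centralizer_singleton_iff.2 (Commute.pow_right (hc a ha) _).eq
  have h5 : c ∈ centralizer ({c ^ (orderOf c / r)} : Set G) :=
    mem_centralizer_singleton_iff.2 (Commute.self_pow c _).eq
  generalize c ^ (orderOf c / r) = x at h3 h4 h5
  by_cases h6 : r = 2
  · obtain ⟨S, hS⟩ := (cit_of_ord2 h x (h3.trans h6)).exists_le_sylow
    obtain ⟨m, hm, ⟨e⟩⟩ := hD S
    obtain ⟨a, b, n, hd⟩ := Inv.exists_dih S.isPGroup' hm e
    exact mem_of_dih hd (h4.trans hS) hH (hS h5) hc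
  rcases ho x (h3 ▸ hr) (h3 ▸ h6) with h7 | h7
  · exact absurd (isCyclic_of_le h4) hH
  rw [h3] at h7
  obtain ⟨k, hk, h8⟩ := (Nat.dvd_prime_pow hr).1 ((card_dvd_of_le h4).trans h7)
  haveI := Fact.mk hr
  obtain rfl | rfl | rfl : k = 0 ∨ k = 1 ∨ k = 2 := by omega
  · exact absurd (isCyclic_of_card_dvd_prime (p := r) (by rw [h8]; simp)) hH
  · exact absurd (isCyclic_of_card_dvd_prime (p := r) (by rw [h8]; simp)) hH
  · rw [eq_of_le_of_card_ge h4 (h8 ▸ Nat.le_of_dvd (pow_pos hr.pos 2) h7)]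
    exact h5

omit [Finite G] in
theorem NCC.equiv {H : Type*} [Group H] (h : NCC H) (e : G ≃* H) : NCC G := fun K hK c hc => by
  have h1 := h (K.map e.toMonoidHom)
    (fun h2 => hK ((K.equivMapOfInjective e.toMonoidHom e.injective).isCyclic.2 h2))
    (x := e c) (by
      rintro _ ⟨a, ha, rfl⟩
      show e a * e c = e c * e a
      rw [← map_mul, ← map_mul, hc a ha])
  obtain ⟨a, ha, h2⟩ := h1
  rwa [← e.injective h2]

theorem ncc_psl2 {F : Type*} [Field F] [Fintype F] {c o k : ℕ} (hc : 2 ≤ c)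
    (hF : Fintype.card F = 2 * c + 1) (hq : Fintype.card F ∣ ringChar F ^ 2) (ho : Odd o)
    (h : (c = 2 ^ k ∧ c + 1 = o) ∨ (c = o ∧ c + 1 = 2 ^ k)) :
    NCC (Matrix.ProjectiveSpecialLinearGroup (Fin 2) F) := by
  obtain ⟨hp, hpo, hpc, hpc', n, hn, hqn⟩ := char_facts hF
  have h1 : ∀ g : Matrix.ProjectiveSpecialLinearGroup (Fin 2) F,
      orderOf g ∣ ringChar F ∨ orderOf g ∣ o ∨ orderOf g ∣ 2 ^ k := fun g => by
    rcases h with ⟨h1, h2⟩ | ⟨h1, h2⟩
    · rw [← h1, ← h2]; have := order_odd hc hF g; tauto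
    · rw [← h2, ← h1]; exact order_odd hc hF g
  have h2 : c * (c + 1) = o * 2 ^ k := by
    rcases h with ⟨h1, h2⟩ | ⟨h1, h2⟩
    · rw [h2, h1, mul_comm]
    · rw [h2, h1]
  have hpo' : ¬ ringChar F ∣ o * 2 ^ (k + 1) := fun h3 => by
    rw [pow_succ, ← mul_assoc, ← h2] at h3
    rcases (Nat.Prime.dvd_mul hp).1 h3 with h4 | h4
    · exact ((Nat.Prime.dvd_mul hp).1 h4).elim hpc hpc'
    · exact hp.ne_one (odd_dvd_two_pow (k := 1) hpo h4)
  have h3 : Nat.card (Matrix.ProjectiveSpecialLinearGroup (Fin 2) F) =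
      Fintype.card F * (o * 2 ^ (k + 1)) := by
    rw [card_psl2_odd hF, hF, mul_assoc 2, h2]; ring
  have h4 : ∀ {r s : ℕ}, r.Prime → s.Prime → ¬ r * s ∣ ringChar F := fun {r s} hr hs h5 => by
    rcases (Nat.dvd_prime hp).1 h5 with h6 | h6
    · exact hr.ne_one (Nat.eq_one_of_mul_eq_one_right h6)
    · exact Nat.not_prime_mul hr.ne_one hs.ne_one (h6 ▸ hp)
  have hO : Ord2 (Matrix.ProjectiveSpecialLinearGroup (Fin 2) F) :=
    ord2_of_no fun r hr hr2 g hg => by
      rcases h1 g with h5 | h5 | h5 <;> rw [hg] at h5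
      · exact h4 Nat.prime_two hr h5
      · exact (Nat.not_even_iff_odd.2 ho) (even_iff_two_dvd.2 ((dvd_mul_right _ _).trans h5))
      · exact hr.ne_one (odd_dvd_two_pow (hr.odd_of_ne_two hr2) ((dvd_mul_left _ _).trans h5))
  refine ncc_of hO (Inv.sylow_two_psl2_dihedral (by omega) (by omega)) fun x hx hx2 => ?_
  have hxo := hx.odd_of_ne_two hx2
  rcases h1 x with h5 | h5 | h5
  · right
    have h6 := (Nat.prime_dvd_prime_iff_eq hx hp).1 h5
    rw [h6]
    refine (card_cent_dvd h6 h3 ((Nat.Prime.coprime_iff_not_dvd hp).2 hpo')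
      fun s hs _ g hg => ?_).trans hq
    rcases h1 g with h7 | h7 | h7 <;> rw [hg] at h7
    · exact h4 hp hs h7
    · exact hpo' (((dvd_mul_right _ _).trans h7).mul_right _)
    · exact hp.ne_one (odd_dvd_two_pow hpo ((dvd_mul_right _ _).trans h7))
  · left
    obtain ⟨y, hy⟩ := exists_order_odd hc hF (m := o) (Or.inr (by
      rcases h with ⟨-, h⟩ | ⟨h, -⟩
      · exact Or.inr (h ▸ dvd_rfl)
      · exact Or.inl (h ▸ dvd_rfl)))
    have h6 : ∀ {s : ℕ}, s.Prime → s ∣ Fintype.card F * 2 ^ (k + 1) → ¬ s ∣ o :=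
      fun {s} hs h7 h8 => by
      rcases (Nat.Prime.dvd_mul hs).1 h7 with h9 | h9
      · rw [hqn] at h9
        rw [(Nat.prime_dvd_prime_iff_eq hs hp).1 (hs.dvd_of_dvd_pow h9)] at h8
        exact hpo' (h8.mul_right _)
      · exact hs.ne_one (odd_dvd_two_pow (Odd.of_dvd_nat ho h8) h9)
    refine cyclic_cent (y := y) (m := Fintype.card F * 2 ^ (k + 1)) hx rfl
      (by rw [h3, hy]; ring) (fun h7 => h6 hx h7 h5) fun s hs h7 g hg => ?_
    rcases h1 g with h8 | h8 | h8 <;> rw [hg] at h8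
    · exact h4 hx hs h8
    · exact h6 hs h7 ((dvd_mul_left _ _).trans h8)
    · exact hx.ne_one (odd_dvd_two_pow hxo ((dvd_mul_right _ _).trans h8))
  · exact absurd (odd_dvd_two_pow hxo h5) hx.ne_one

end Cfsg.Agent.CIT.F
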