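import Mathlib
import Cfsg.Agent.CIT.F9
import Cfsg.Agent.Dih.Count
import Cfsg.Agent.Inv.Wr4

/-! Groups whose involution centralisers have normal `2`-complements. -/

set_option autoImplicit false

namespace Cfsg.Agent.CIT.F

open Subgroup Matrix

variable {G : Type*} [Group G] [Finite G]

/-- all involution centralisers are `2`-nilpotent -/
def NPC (G : Type*) [Group G] : Prop :=
  ∀ t : G, orderOf t = 2 → Cfsg.HasNormalPComplement 2 (centralizer ({t} : Set G))

theorem NPC.odd_comm (h : NPC G) {z g s : G} (hz : orderOf z = 2)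
    (hg : g ∈ centralizer ({z} : Set G)) (hs : s ∈ centralizer ({z} : Set G))
    (ho : Odd (orderOf g)) : Odd (orderOf (g * s * g⁻¹ * s⁻¹)) := by
  have h1 := (Dih.mem_coreC (h z hz)).2 ⟨hg, ho.not_two_dvd_nat⟩
  have h2 := (mem_normalizer_iff.1 (Dih.le_normalizer_coreC z hs) _).1 (inv_mem h1)
  have h3 := ((Dih.mem_coreC (h z hz)).1 (mul_mem h1 h2)).2
  rw [Nat.two_dvd_ne_zero, ← Nat.odd_iff] at h3
  simpa only [mul_assoc] using h3

theorem NPC.cent (h : NPC G) {z g : G} (hz : orderOf z = 2) {B : Subgroup G} (hB : IsPGroup 2 B)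
    (hBz : B ≤ centralizer ({z} : Set G)) (hg : g ∈ centralizer ({z} : Set G))
    (hn : g ∈ normalizer (B : Set G)) (ho : Odd (orderOf g)) : g ∈ centralizer (B : Set G) := by
  haveI : Fact (Nat.Prime 2) := ⟨Nat.prime_two⟩
  intro b hb
  have h1 := h.odd_comm hz hg (hBz hb) ho
  obtain ⟨k, hk⟩ := IsPGroup.iff_orderOf.1 hB
    ⟨_, mul_mem ((mem_normalizer_iff.1 hn b).1 hb) (inv_mem hb)⟩
  rw [← orderOf_coe] at hk
  have h2 := orderOf_eq_one_iff.1 (odd_dvd_two_pow h1 hk.dvd)
  rw [mul_inv_eq_one, mul_inv_eq_iff_eq_mul] at h2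
  exact h2.symm

theorem NPC.equiv {H : Type*} [Group H] (h : NPC G) (e : G ≃* H) : NPC H := fun t ht => by
  haveI : Fact (Nat.Prime 2) := ⟨Nat.prime_two⟩
  haveI : Finite H := Finite.of_equiv G e.toEquiv
  have h1 := h (e.symm t) (by rw [e.symm.orderOf_eq, ht])
  have h2 : (centralizer ({e.symm t} : Set G)).map e.toMonoidHom = centralizer ({t} : Set H) := by
    ext a
    rw [mem_map_equiv, mem_centralizer_singleton_iff, mem_centralizer_singleton_iff,
      ← map_mul, ← map_mul, e.symm.injective.eq_iff]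
  rw [← h2]
  let f := (centralizer ({e.symm t} : Set G)).equivMapOfInjective e.toMonoidHom e.injective
  obtain ⟨P, N, hN, hc⟩ := h1
  have hf : Function.Surjective f.toMonoidHom := f.surjective
  have hf' : Function.Injective f.toMonoidHom := f.injective
  refine ⟨P.mapSurjective hf, N.map f.toMonoidHom, hN.map _ hf, ?_⟩
  refine isComplement'_of_disjoint_and_mul_eq_univ ?_ ?_
  · rw [Sylow.coe_mapSurjective, disjoint_iff, ← Subgroup.map_inf _ _ _ hf',
      disjoint_iff.1 hc.disjoint, Subgroup.map_bot]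
  · rw [Sylow.coe_mapSurjective, coe_map, coe_map, ← Set.image_mul, hc.mul_eq,
      Set.image_univ_of_surjective hf]

theorem NPC.not_qd (h : NPC G) (h2 : ∀ H : Subgroup G, H.index ≠ 2) (S : Sylow 2 G) :
    ¬ Cfsg.IsQuasiDihedral (S : Subgroup G) := fun hq => by
  obtain ⟨x, y, m, hS⟩ := Inv.exists_qd hq
  obtain ⟨e⟩ := hS.toMC.change_xy.q8 hS.xy
  have hle := hS.toMC.change_xy.q8_le
  have hO : Inv.OddC (closure ({x ^ 2 ^ (m + 1), x * y} : Set G)) := fun g hg hodd => by
    have hz2 : orderOf (x ^ 2 ^ (m + 2)) = 2 := hS.toMC.z_two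
    have hz : x ^ 2 ^ (m + 2) ∈ closure ({x ^ 2 ^ (m + 1), x * y} : Set G) := by
      rw [← hS.xy]
      exact mul_mem (subset_closure (by simp)) (subset_closure (by simp))
    have hc : g * x ^ 2 ^ (m + 2) * g⁻¹ = x ^ 2 ^ (m + 2) :=
      Inv.q8_unique e ((mem_normalizer_iff.1 hg _).1 hz) hz
        (((MulAut.conj g).orderOf_eq _).trans hz2) hz2
    exact h.cent hz2 (S.isPGroup'.to_le hle)
      (fun b hb => mem_centralizer_singleton_iff.2 (hS.toMC.commute_z (hle hb)).eq)
      (mem_centralizer_singleton_iff.2 (mul_inv_eq_iff_eq_mul.1 hc)) hg hodd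
  have h3 := (hS.of_oddC_q8 e hle hO).2
  rw [Inv.pResidual_eq_top_of_no_index_two h2, inf_top_eq] at h3
  exact hS.toMC.x_not_mem_max hS.toMC.y_sq_mem (h3 hS.toMC.x_mem)

theorem NPC.not_wr (h : NPC G) (h2 : ∀ H : Subgroup G, H.index ≠ 2) (S : Sylow 2 G) :
    ¬ Cfsg.IsWreathed (S : Subgroup G) := fun hq => by
  obtain ⟨x, y, t, n, hS, ht⟩ := Inv.exists_wr hq
  have h' := hS.change_mul (Inv.Wr.x1U x y (2 ^ (n + 1)))
  have hs := hS.x1t_sq ht
  have h3 := h'.inf_le_U hs fun g hg ho => by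
    by_contra h4
    rcases h'.essential h'.V_le (h'.V_centralizer _) hg ho h4 with h5 | ⟨h5, -⟩
    · exact h'.V_ne_U _ h5
    · exact h4 (h.cent h'.z_two (S.isPGroup'.to_le h'.V_le)
        (fun b hb => mem_centralizer_singleton_iff.2
          (h'.commute_Z (h'.V_le hb) (Inv.Wr.z_memZ x y _)).eq)
        (mem_centralizer_singleton_iff.2 (mul_inv_eq_iff_eq_mul.1 (h5 _ (Inv.Wr.z_memZ x y _))))
        hg ho)
  rw [Inv.pResidual_eq_top_of_no_index_two h2, inf_top_eq] at h3
  exact hS.nt (h3 hS.t_mem)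

theorem NPC.two_quot (h : NPC G) {t : G} (ht : orderOf t = 2) :
    IsPGroup 2 (centralizer ({t} : Set G) ⧸ Cfsg.pPrimeCore 2 (centralizer ({t} : Set G))) :=
  IsPGroup.of_card (Block.index_pPrimeCore_of_complement Nat.prime_two (h t ht))

theorem NPC.solv (h : NPC G) (t : G) (ht : orderOf t = 2) :
    Group.IsSolvable (centralizer ({t} : Set G)) :=
  (Group.isSolvable_iff_subgroup_quotient (Cfsg.pPrimeCore 2 (centralizer ({t} : Set G)))).2
    ⟨S0205.result (Nat.odd_iff.2 (Nat.two_dvd_ne_zero.1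
      (Core.not_dvd_card_pPrimeCore Nat.prime_two))), solv_two (h.two_quot ht)⟩

theorem NPC.ord2 [IsSimpleGroup G] (h : NPC G) (hn : ¬ IsMulCommutative G)
    (h3 : ¬ Cfsg.PRankLE 2 2 G) : Ord2 G :=
  ord2_of_cit fun t ht => (h.two_quot ht).of_equiv
    ((QuotientGroup.quotientMulEquivOfEq (cores_bot hn h3 h.solv ht)).trans
      QuotientGroup.quotientBot)

/-- unipotent matrices fixing `(1,1,0)` -/
def um {F : Type*} [Field F] (h2 : (2 : F) = 0) (x y d : F) : SpecialLinearGroup (Fin 3) F :=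
  ⟨!![1 + d, d, x; d, 1 + d, x; y, y, 1], by
    rw [det_fin_three]; simp; linear_combination (d - x * y) * h2⟩

theorem um_mul {F : Type*} [Field F] (h2 : (2 : F) = 0) (x y d x' y' d' : F) :
    um h2 x y d * um h2 x' y' d' = um h2 (x + x') (y + y') (d + d' + x * y') := by
  apply Subtype.ext
  change (um h2 x y d).1 * (um h2 x' y' d').1 = _
  ext i j
  fin_cases i <;> fin_cases j <;> simp [um, Matrix.mul_apply, Fin.sum_univ_three]
  · linear_combination (d * d') * h2
  · linear_combination (d * d') * h2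
  · linear_combination (d * x') * h2
  · linear_combination (d * d') * h2
  · linear_combination (d * d') * h2
  · linear_combination (d * x') * h2
  · linear_combination (y * d') * h2
  · linear_combination (y * d') * h2
  · linear_combination (y * x') * h2

theorem um_zero {F : Type*} [Field F] (h2 : (2 : F) = 0) : um h2 0 0 0 = 1 := by
  apply Subtype.ext
  ext i j
  fin_cases i <;> fin_cases j <;> simp [um]

theorem um_four {F : Type*} [Field F] (h2 : (2 : F) = 0) (x y d : F) : um h2 x y d ^ 4 = 1 := by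
  have h : ∀ a : F, a + a = 0 := fun a => by linear_combination a * h2
  rw [show 4 = 2 * 2 from rfl, pow_mul, sq, sq, um_mul, um_mul]
  simp [h, um_zero]

theorem not_npc_PSU {F : Type*} [Field F] [Fintype F] (hF : Fintype.card F = 16) :
    ¬ NPC (Cfsg.PSU 3 F 4) := by
  classical
  intro h
  haveI : Fact (Nat.Prime 2) := ⟨Nat.prime_two⟩
  haveI : CharP F 2 := ringChar_of_card (p := 2) (k := 4) Nat.prime_two hF ▸ ringChar.charP F
  have h2 : (2 : F) = 0 := by exact_mod_cast CharP.cast_eq_zero F 2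
  obtain ⟨u, hu⟩ : ∃ u : Fˣ, orderOf u = 5 := by
    obtain ⟨z, hz⟩ := IsCyclic.exists_ofOrder_eq_natCard (α := Fˣ)
    have hc : orderOf z = 15 := by
      rw [hz, Nat.card_eq_fintype_card, Fintype.card_units, hF]
    exact ⟨z ^ (orderOf z / 5), orderOf_pow_orderOf_div (orderOf_pos z).ne' (by rw [hc]; decide)⟩
  set a : F := (u : F) with ha
  have ha0 : a ≠ 0 := u.ne_zero
  have ha5 : a ^ 5 = 1 := by
    rw [ha, ← Units.val_pow_eq_pow_val, ← hu, pow_orderOf_eq_one, Units.val_one]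
  have hak : ∀ k, 0 < k → k < 5 → a ^ k ≠ 1 := fun k h1 h3 h4 => by
    have : u ^ k = 1 := Units.ext (by rw [Units.val_pow_eq_pow_val]; exact h4)
    have := Nat.le_of_dvd h1 (orderOf_dvd_of_pow_eq_one this)
    omega
  have ha1 : a - 1 ≠ 0 := fun h => hak 1 (by norm_num) (by norm_num) (by linear_combination h)
  have ha4 : a ^ 4 + a ^ 3 + a ^ 2 + a + 1 = 0 :=
    mul_left_cancel₀ ha1 (by linear_combination ha5)
  -- `d = a + a ^ 3`-like element with `d ^ 4 + d = 1`
  obtain ⟨d, hd⟩ : ∃ d : F, d ^ 4 = d + 1 := ⟨a ^ 2 + a, by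
    have h4 : (a ^ 2 + a) ^ 4 = a ^ 8 + a ^ 4 := by
      rw [show 4 = 2 ^ 2 from rfl, add_pow_char_pow]; ring
    rw [h4]
    linear_combination a ^ 3 * ha5 + ha4 - (a ^ 2 + a + 1) * h2⟩
  let D : SpecialLinearGroup (Fin 3) F := ⟨!![a, 0, 0; 0, a, 0; 0, 0, a ^ 3], by
    rw [det_fin_three]; simp; linear_combination ha5⟩
  have hD : D ∈ Cfsg.SU 3 F 4 := Comp.mem_SU 2 (k := 2) rfl D fun i j => by
    fin_cases i <;> fin_cases j <;> simp [D, Fin.sum_univ_three]
    · linear_combination ha5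
    · linear_combination ha5
    · linear_combination (a ^ 10 + a ^ 5 + 1) * ha5
  have hd' : (1 + d) ^ 4 = d := by
    rw [show 4 = 2 ^ 2 from rfl, add_pow_char_pow]
    linear_combination hd + h2
  have hs : um h2 1 1 d ∈ Cfsg.SU 3 F 4 := Comp.mem_SU 2 (k := 2) rfl _ fun i j => by
    fin_cases i <;> fin_cases j <;> simp [um, Fin.sum_univ_three, hd, hd']
    · linear_combination (d ^ 2 + d) * h2
    · linear_combination (d ^ 2 + d + 1) * h2
    · linear_combination (d + 1) * h2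
    · linear_combination (d ^ 2 + d + 1) * h2
    · linear_combination (d ^ 2 + d) * h2
    · linear_combination (d + 1) * h2
    · linear_combination (d + 1) * h2
    · linear_combination (d + 1) * h2
    · linear_combination h2
  have h11 : (1 : F) + 1 = 0 := by linear_combination h2
  have hW : um h2 0 0 1 ∈ Cfsg.SU 3 F 4 := Comp.mem_SU 2 (k := 2) rfl _ fun i j => by
    fin_cases i <;> fin_cases j <;> simp [um, Fin.sum_univ_three, h11]
  let π := QuotientGroup.mk' (center (Cfsg.SU 3 F 4))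
  have hWc : π ⟨_, hW⟩ ≠ 1 := fun h1 => by
    let E : SpecialLinearGroup (Fin 3) F := ⟨!![a, 0, 0; 0, a ^ 4, 0; 0, 0, 1], by
      rw [det_fin_three]; simp; linear_combination ha5⟩
    have hE : E ∈ Cfsg.SU 3 F 4 := Comp.mem_SU 2 (k := 2) rfl E fun i j => by
      fin_cases i <;> fin_cases j <;> simp [E, Fin.sum_univ_three]
      · linear_combination ha5
      · linear_combination (a ^ 15 + a ^ 10 + a ^ 5 + 1) * ha5
    have h3 := mem_center_iff.1 ((QuotientGroup.eq_one_iff _).1 h1) ⟨E, hE⟩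
    have h4 : (E.1 * (um h2 0 0 1).1) 0 1 = ((um h2 0 0 1).1 * E.1) 0 1 :=
      congrArg (fun M : Cfsg.SU 3 F 4 => (M.1.1 : Matrix _ _ F) 0 1) h3
    simp [E, um, Matrix.mul_apply, Fin.sum_univ_three] at h4
    exact hak 3 (by norm_num) (by norm_num) (mul_left_cancel₀ ha0 (by linear_combination -h4))
  have hW2 : orderOf (π ⟨_, hW⟩) = 2 := by
    refine orderOf_eq_prime ?_ hWc
    rw [← map_pow]
    have : (⟨_, hW⟩ : Cfsg.SU 3 F 4) ^ 2 = 1 := by
      apply Subtype.ext
      change um h2 0 0 1 ^ 2 = 1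
      rw [sq, um_mul]
      simp [h11, um_zero]
    rw [this, map_one]
  have hDo : Odd (orderOf (π ⟨D, hD⟩)) := by
    have h1 : (⟨D, hD⟩ : Cfsg.SU 3 F 4) ^ 5 = 1 := by
      have h5 : (D.1 : Matrix (Fin 3) (Fin 3) F) = diagonal ![a, a, a ^ 3] := by
        ext i j
        fin_cases i <;> fin_cases j <;> simp [D]
      apply Subtype.ext
      apply Subtype.ext
      change (D.1 : Matrix (Fin 3) (Fin 3) F) ^ 5 = 1
      rw [h5, diagonal_pow, ← diagonal_one]
      congr 1
      ext i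
      fin_cases i
      · exact ha5
      · exact ha5
      · change (a ^ 3) ^ 5 = 1
        rw [← pow_mul, mul_comm, pow_mul, ha5, one_pow]
    exact Odd.of_dvd_nat (by decide) (orderOf_dvd_of_pow_eq_one
      (n := 5) (by rw [← map_pow, h1, map_one]))
  have hDu : ∀ x y e : F, D * um h2 x y e = um h2 (a ^ 3 * x) (a ^ 2 * y) e * D := fun x y e => by
    apply Subtype.ext
    change D.1 * (um h2 x y e).1 = (um h2 _ _ e).1 * D.1
    ext i j
    fin_cases i <;> fin_cases j <;> simp [D, um, Matrix.mul_apply, Fin.sum_univ_three, mul_comm]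
    · linear_combination -(a * x) * ha5
    · linear_combination -(a * x) * ha5
    · ring
    · ring
  have h3 := h.odd_comm (g := π ⟨D, hD⟩) (s := π ⟨_, hs⟩) hW2
    (mem_centralizer_singleton_iff.2 (Commute.map (Subtype.ext (by
      change D * um h2 0 0 1 = um h2 0 0 1 * D
      rw [hDu, mul_zero, mul_zero])) π).eq)
    (mem_centralizer_singleton_iff.2 (Commute.map (Subtype.ext (by
      change um h2 1 1 d * um h2 0 0 1 = um h2 0 0 1 * um h2 1 1 d
      rw [um_mul, um_mul]; simp [add_comm])) π).eq) hDo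
  have h4 : D * um h2 1 1 d * D⁻¹ * (um h2 1 1 d)⁻¹ =
      um h2 (a ^ 3 + 1) (a ^ 2 + 1) (a ^ 3 + 1) := by
    rw [hDu, mul_inv_cancel_right, mul_inv_eq_iff_eq_mul, um_mul]
    congr 1
    · linear_combination -h2
    · linear_combination -h2
    · linear_combination -(a ^ 3 + 1) * h2
  rw [← map_inv, ← map_inv, ← map_mul, ← map_mul, ← map_mul] at h3
  have h5 : orderOf (π (⟨D, hD⟩ * ⟨_, hs⟩ * ⟨D, hD⟩⁻¹ * ⟨_, hs⟩⁻¹)) ∣ 2 ^ 2 :=
    orderOf_dvd_of_pow_eq_one (by
      rw [← map_pow, ← map_one π]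
      congr 1
      apply Subtype.ext
      change (D * um h2 1 1 d * D⁻¹ * (um h2 1 1 d)⁻¹) ^ 4 = 1
      rw [h4, um_four])
  have h6 := mem_center_iff.1 ((QuotientGroup.eq_one_iff _).1
    (orderOf_eq_one_iff.1 (odd_dvd_two_pow h3 h5))) ⟨D, hD⟩
  have h7 : D * (D * um h2 1 1 d * D⁻¹ * (um h2 1 1 d)⁻¹) =
      D * um h2 1 1 d * D⁻¹ * (um h2 1 1 d)⁻¹ * D := congrArg Subtype.val h6
  rw [h4, hDu, mul_left_inj] at h7
  have h8 : a ^ 3 * (a ^ 3 + 1) = a ^ 3 + 1 :=
    congrArg (fun M : SpecialLinearGroup (Fin 3) F => (M.1 : Matrix _ _ F) 0 2) h7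
  refine hak 1 (by norm_num) (by norm_num) ?_
  linear_combination h8 - a * ha5

end Cfsg.Agent.CIT.F
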