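import Mathlib
import Cfsg.Agent.CIT.F10
import Cfsg.Agent.S1248
import Cfsg.Agent.Inv.Wr

/-! Groups with the order and the spectrum of `L₂(q)`, `q` odd. -/

set_option autoImplicit false

namespace Cfsg.Agent.CIT.F

open Subgroup
open scoped Pointwise

universe u

variable {G : Type*} [Group G] [Finite G]

theorem exists_min [Nontrivial G] (h0 : ∀ N : Subgroup G, N.Normal → Group.IsSolvable N → N = ⊥) :
    ∃ (N : Subgroup G) (_ : N.Normal), ¬ Group.IsSolvable N ∧ (IsSimpleGroup N ∨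
      ∃ t : G, orderOf t = 2 ∧ ∃ K : Subgroup G, K ≤ centralizer ({t} : Set G) ∧
        ¬ Group.IsSolvable K ∧ ∀ r : ℕ, r.Prime → r ∣ Nat.card N → r ∣ Nat.card K) := by
  obtain ⟨N, hN, h1, -, hmin⟩ := Core.exists_minimal_normal_le (⊤ : Subgroup G) top_ne_bot
  have hs : ¬ Group.IsSolvable N := fun hs => h1 (h0 N hN hs)
  refine ⟨N, hN, hs, ?_⟩
  obtain ⟨T, _, m, hT, hm, ⟨e⟩⟩ := Perm.minimal_normal_equiv_pi N h1 hmin
  haveI : Finite (Fin m → T) := Finite.of_equiv _ e.toEquiv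
  haveI : Finite T := Finite.of_injective (fun t => (fun _ => t : Fin m → T)) fun a b hab =>
    congrFun hab ⟨0, hm⟩
  have hTs : ¬ Group.IsSolvable T := fun h1 => hs (by
    haveI : IsMulCommutative T := ⟨⟨IsSimpleGroup.comm_iff_isSolvable.2 h1⟩⟩
    refine Group.isSolvable_of_comm fun a b => e.injective ?_
    rw [map_mul, map_mul]
    exact funext fun i => mul_comm' _ _)
  by_cases hm1 : m = 1
  · subst hm1
    exact Or.inl (e.trans (MulEquiv.piUnique fun _ => T)).isSimpleGroup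
  right
  obtain ⟨t, ht⟩ := exists_two_of_ns hTs
  let f : T →* G := N.subtype.comp (e.symm.toMonoidHom.comp
    (MonoidHom.mulSingle (fun _ : Fin m => T) ⟨0, hm⟩))
  have hf : Function.Injective f := N.subtype_injective.comp (e.symm.injective.comp
    (Pi.mulSingle_injective (M := fun _ : Fin m => T) ⟨0, hm⟩))
  refine ⟨e.symm (Pi.mulSingle ⟨1, by omega⟩ t), by
    rw [orderOf_coe, MulEquiv.orderOf_eq, orderOf_piMulSingle, ht], f.range, ?_, fun h2 => hTs ?_,
    fun r hr h2 => ?_⟩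
  · rintro _ ⟨a, rfl⟩
    exact mem_centralizer_singleton_iff.2 (((Pi.mulSingle_commute (f := fun _ => T)
      (by simp) a t).map e.symm).map N.subtype).eq
  · exact Group.isSolvable_of_isSolvable_injective (f := f.rangeRestrict)
      (f.rangeRestrict_injective_iff.2 hf)
  · rw [Nat.card_congr e.toEquiv, Nat.card_fun] at h2
    rw [← Nat.card_congr (MonoidHom.ofInjective hf).toEquiv]
    exact hr.dvd_of_dvd_pow h2

/-- `X` has index at most two in `B` -/
def I2 (X B : Subgroup G) : Prop := ∀ a ∈ B, ∀ b ∈ B, a ∈ X ∨ b ∈ X ∨ a * b ∈ X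

theorem i2_of_dvd {X B : Subgroup G} (hle : X ≤ B) (h : Nat.card B ∣ 2 * Nat.card X) : I2 X B := by
  have h1 := (X.subgroupOf B).index_mul_card
  rw [Nat.card_congr (subgroupOfEquivOfLe hle).toEquiv] at h1
  rw [← h1] at h
  have h2 := Nat.dvd_of_mul_dvd_mul_right Nat.card_pos h
  intro a ha b hb
  rcases (Nat.dvd_prime Nat.prime_two).1 h2 with h3 | h3
  · exact Or.inl (mem_subgroupOf.1 (show (⟨a, ha⟩ : B) ∈ X.subgroupOf B by
      rw [index_eq_one.1 h3]; trivial))
  · have h4 := mul_mem_iff_of_index_two h3 (a := ⟨a, ha⟩) (b := ⟨b, hb⟩)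
    simp only [mem_subgroupOf, coe_mul] at h4
    tauto

theorem I2.card_le {X B : Subgroup G} (h : I2 X B) :
    Nat.card B ≤ 2 * Nat.card (X ⊓ B : Subgroup G) := by
  have h1 := (X.subgroupOf B).index_mul_card
  rw [← inf_subgroupOf_right, Nat.card_congr (subgroupOfEquivOfLe inf_le_right).toEquiv,
    inf_subgroupOf_right] at h1
  rw [← h1]
  refine Nat.mul_le_mul_right _ ?_
  by_cases h2 : B ≤ X
  · rw [subgroupOf_eq_top.2 h2, index_top]; omega
  obtain ⟨t, ht, ht'⟩ := SetLike.not_le_iff_exists.1 h2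
  refine (index_eq_two_iff.2 ⟨⟨t, ht⟩, fun b => ?_⟩).le
  simp only [mem_subgroupOf, coe_mul]
  by_cases hb : (b : G) ∈ X
  · exact Or.inr ⟨hb, fun h3 => ht' ((mul_mem_cancel_left hb).1 h3)⟩
  · exact Or.inl ⟨((h b b.2 t ht).resolve_left hb).resolve_left ht', hb⟩

omit [Finite G] in
theorem I2.sq {X B : Subgroup G} (h : I2 X B) {a : G} (ha : a ∈ B) : a * a ∈ X := by
  rcases h a ha a ha with h1 | h1 | h1
  · exact mul_mem h1 h1
  · exact mul_mem h1 h1
  · exact h1

omit [Finite G] in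
theorem card_dvd_of_cyc {X : Subgroup G} (hX : IsCyclic X) {k : ℕ} (h : ∀ a ∈ X, a ^ k = 1) :
    Nat.card X ∣ k := by
  rw [← IsCyclic.exponent_eq_card]
  exact Monoid.exponent_dvd_of_forall_pow_eq_one fun a => Subtype.ext (h a a.2)

/-- `2`-subgroups and the relevant involution centralisers have cyclic subgroups of index `≤ 2` -/
def CycZ (G : Type*) [Group G] : Prop :=
  ∀ B : Subgroup G, IsPGroup 2 B → ∃ X : Subgroup G, IsCyclic X ∧ I2 X B ∧
    ∀ z ∈ X, orderOf z = 2 → I2 X (centralizer ({z} : Set G))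

omit [Finite G] in
theorem CycZ.sub (h : CycZ G) (N : Subgroup G) : CycZ N := fun B hB => by
  obtain ⟨X, h1, h2, h3⟩ := h (B.map N.subtype) (hB.map _)
  refine ⟨X.subgroupOf N, isCyclic_of_injective (N.subtype.subgroupComap X) fun a b hab =>
    Subtype.ext (Subtype.ext (congrArg (fun x : X => (x : G)) hab)),
    fun a ha b hb => h2 a ⟨a, ha, rfl⟩ b ⟨b, hb, rfl⟩,
    fun z hz hz2 a ha b hb => h3 z hz (by rw [orderOf_coe, hz2]) a ?_ b ?_⟩
  · exact mem_centralizer_singleton_iff.2 (congrArg Subtype.val (mem_centralizer_singleton_iff.1 ha))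
  · exact mem_centralizer_singleton_iff.2 (congrArg Subtype.val (mem_centralizer_singleton_iff.1 hb))

theorem CycZ.dihSyl {G : Type u} [Group G] [Finite G] [IsSimpleGroup G] (h : CycZ G)
    (hn : ¬ IsMulCommutative G) : GW.DihSyl G := by
  haveI : Fact (Nat.Prime 2) := ⟨Nat.prime_two⟩
  have h3 : Cfsg.PRankLE 2 2 G := fun A _ hA => by
    obtain ⟨X, h1, h2, -⟩ := h A fun a => ⟨1, Subtype.ext (hA a a.2)⟩
    have h4 := Nat.le_of_dvd two_pos (card_dvd_of_cyc (X := X ⊓ A) (isCyclic_of_le inf_le_left)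
      fun a ha => hA a ha.2)
    have := h2.card_le
    omega
  obtain ⟨S⟩ : Nonempty (Sylow 2 G) := inferInstance
  obtain ⟨K, _, _, hK⟩ := exists_F16
  obtain ⟨P⟩ : Nonempty (Sylow 2 (Cfsg.PSU 3 K 4)) := inferInstance
  obtain ⟨X, hX, h1, h2⟩ := h S S.isPGroup'
  rcases S0516.result hn h3 S hK P with ⟨n, h4, ⟨e⟩⟩ | hq | hq | ⟨⟨e⟩⟩
  · exact GW.dihSyl_of_equiv S h4 e
  · exfalso
    obtain ⟨x, y, m, hS⟩ := Inv.exists_qd hq
    obtain ⟨e⟩ := hS.toMC.change_xy.q8 hS.xy
    have hle := hS.toMC.change_xy.q8_le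
    have hO : Inv.OddC (closure ({x ^ 2 ^ (m + 1), x * y} : Set G)) := fun g hg hodd => by
      have hz2 : orderOf (x ^ 2 ^ (m + 2)) = 2 := hS.toMC.z_two
      have hz : x ^ 2 ^ (m + 2) ∈ closure ({x ^ 2 ^ (m + 1), x * y} : Set G) := by
        rw [← hS.xy]
        exact mul_mem (subset_closure (by simp)) (subset_closure (by simp))
      have hc : g * x ^ 2 ^ (m + 2) * g⁻¹ = x ^ 2 ^ (m + 2) :=
        Inv.q8_unique e ((mem_normalizer_iff.1 hg _).1 hz) hz
          (((MulAut.conj g).orderOf_eq _).trans hz2) hz2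
      have h5 : g * g ∈ X := (h2 _ (hS.xy ▸ h1.sq hS.xy_mem) hz2).sq
        (mem_centralizer_singleton_iff.2 (mul_inv_eq_iff_eq_mul.1 hc))
      have h6 : g ∈ X := by
        obtain ⟨k, hk⟩ := hodd
        rw [show g = (g * g) ^ (k + 1) by
          rw [← sq, ← pow_mul, show 2 * (k + 1) = orderOf g + 1 by omega, pow_succ,
            pow_orderOf_eq_one, one_mul]]
        exact pow_mem h5 _
      have h7 : ∀ a ∈ X, g * a * g⁻¹ = a := fun a ha => by
        letI := hX.commGroup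
        rw [show g * a = a * g from congrArg Subtype.val (mul_comm (⟨g, h6⟩ : X) ⟨a, ha⟩),
          mul_inv_cancel_right]
      intro t ht
      refine (mul_inv_eq_iff_eq_mul.1 (Inv.conj_eq_of_odd_of_coset (A := X ⊓ S)
        (S.isPGroup'.to_le inf_le_right) hodd (fun a ha => h7 a ha.1) ?_)).symm
      have h8 := hle ((mem_normalizer_iff.1 hg t).1 ht)
      have h8' : t⁻¹ ∈ (S : Subgroup G) := inv_mem (hle ht)
      refine mem_inf.2 ⟨?_, mul_mem h8 h8'⟩
      rcases h1 _ h8 _ h8' with h9 | h9 | h9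
      · have h10 : t ∈ X := by
          simpa [mul_assoc] using mul_mem (mul_mem (inv_mem h6) h9) h6
        exact mul_mem h9 (inv_mem h10)
      · exact mul_mem (mul_mem (mul_mem h6 (inv_mem_iff.1 h9)) (inv_mem h6)) h9
      · exact h9
    have h3 := (hS.of_oddC_q8 e hle hO).2
    rw [Inv.pResidual_eq_top_of_no_index_two (no_index_two hn), inf_top_eq] at h3
    exact hS.toMC.x_not_mem_max hS.toMC.y_sq_mem (h3 hS.toMC.x_mem)
  · exfalso
    obtain ⟨x, y, t, n, hS, -⟩ := Inv.exists_wr hq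
    have h5 : ∀ a ∈ (S : Subgroup G), a ^ 2 ^ (n + 1) ∈ X := fun a ha => by
      rw [pow_succ', pow_mul, sq]
      exact pow_mem (h1.sq ha) _
    haveI := Inv.isKleinFour_closure hS.x1_two hS.y1_two (hS.comm.pow_pow _ _) hS.x1_ne_y1
    refine IsKleinFour.not_isCyclic (isCyclic_of_le (H' := X)
      (H := closure ({x ^ 2 ^ (n + 1), y ^ 2 ^ (n + 1)} : Set G)) ((closure_le _).2 ?_))
    rintro a (rfl | rfl)
    · exact h5 x (hS.le (Inv.Wr.xU x y))
    · exact h5 y (hS.le (Inv.Wr.yU x y))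
  · exfalso
    obtain ⟨h5, h6, -, -, -, h7⟩ := S1248.result hK P
    have h8 : ∀ a : P, a ^ 4 = 1 := fun a => by
      have h9 : a ^ 2 ∈ center (P : Subgroup (Cfsg.PSU 3 K 4)) :=
        (QuotientGroup.eq_one_iff _).1 (h7 (a : _ ⧸ center (P : Subgroup (Cfsg.PSU 3 K 4))))
      rw [← Inv.four_mul_self h6 h9, ← pow_add]
    have h9 := Nat.le_of_dvd (by norm_num) (card_dvd_of_cyc (X := X ⊓ S) (k := 4)
      (isCyclic_of_le inf_le_left) fun a ha => congrArg Subtype.val (e.injective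
        (a₁ := ⟨a, ha.2⟩ ^ 4) (a₂ := 1) (by rw [map_pow, h8, map_one])))
    have h10 := h1.card_le
    rw [Nat.card_congr e.toEquiv] at h10
    have h11 : Nat.card (P : Subgroup (Cfsg.PSU 3 K 4)) = 64 := h5
    omega

theorem index_dvd_of_dih {N : Subgroup G} [hN : N.Normal] [IsSimpleGroup N]
    (hn : ¬ IsMulCommutative N) (hD : GW.DihSyl N) :
    ∃ t : G, orderOf t = 2 ∧ N.index ∣ Nat.card (centralizer ({t} : Set G)) := by
  obtain ⟨t, ht⟩ := exists_two_of_ns (not_solv_of_simple hn)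
  obtain ⟨s, hs, -⟩ := exists_nci hn ht
  have hE : ⁅(⊤ : Subgroup N), (⊤ : Subgroup N)⁆ = ⊤ := by
    refine (Subgroup.Normal.eq_bot_or_eq_top (H := ⁅(⊤ : Subgroup N), (⊤ : Subgroup N)⁆)
      inferInstance).resolve_left fun h => hn ⟨⟨fun a b => ?_⟩⟩
    rw [commutator_eq_bot_iff_le_centralizer] at h
    exact h (mem_top b) a (Subgroup.mem_top a)
  refine ⟨t, by rw [orderOf_coe, ht], ?_⟩
  have h1 : N ⊔ centralizer ({(t : G)} : Set G) = ⊤ := by
    refine eq_top_iff.2 fun g _ => ?_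
    obtain ⟨n, -, h2⟩ := GW.perfect_conj hD hE ht hs (mem_top _) (mem_top _)
      (a := ⟨g * t * g⁻¹, hN.conj_mem _ t.2 g⟩)
      (by rw [← orderOf_coe, ← ht, ← orderOf_coe t]; exact (MulAut.conj g).orderOf_eq _) (mem_top _)
    have h3 : (n : G) * t * (n : G)⁻¹ = g * t * g⁻¹ := congrArg Subtype.val h2
    rw [show g = n * ((n : G)⁻¹ * g) by group]
    refine mul_mem (mem_sup_left n.2) (mem_sup_right (mem_centralizer_singleton_iff.2 ?_))
    calc (n : G)⁻¹ * g * t = (n : G)⁻¹ * (g * t * g⁻¹) * g := by group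
      _ = t * ((n : G)⁻¹ * g) := by rw [← h3]; group
  rw [Inv.index_eq_relIndex_of_sup_eq_top h1 le_rfl]
  exact index_dvd_card _

/-- the order and the spectrum of `L₂(q)`, `q = 2c+1` -/
structure Sp (G : Type*) [Group G] (p q c e o : ℕ) : Prop where
  hp : p.Prime
  pow : ∃ n, q = p ^ n
  hq : q = 2 * c + 1
  hc : 2 ≤ c
  eo : (e = c ∧ o = c + 1) ∨ (e = c + 1 ∧ o = c)
  ev : 2 ∣ e
  card : Nat.card G = q * (2 * e * o)
  ord : ∀ g : G, orderOf g ∣ p ∨ orderOf g ∣ e ∨ orderOf g ∣ o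
  exe : ∃ g : G, orderOf g = e
  exo : ∃ g : G, orderOf g = o

namespace Sp

variable {p q c e o : ℕ} (h : Sp G p q c e o)
include h

omit [Finite G] in
theorem cop : (2 * e).Coprime o := by
  have h1 := h.ev
  refine Nat.Coprime.mul_left (Nat.coprime_two_left.2 (Nat.odd_iff.2 ?_)) ?_
  · rcases h.eo with ⟨h2, h3⟩ | ⟨h2, h3⟩ <;> omega
  · rcases h.eo with ⟨rfl, rfl⟩ | ⟨rfl, rfl⟩ <;> simp

omit [Finite G] in
theorem copq : q.Coprime (2 * e * o) := by
  have h1 : q.Coprime c := by rw [h.hq]; simp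
  have h2 : q.Coprime (c + 1) := by
    rw [h.hq, show 2 * c + 1 = c + (c + 1) by ring]; simp
  have h3 : q.Coprime 2 := by rw [h.hq]; simp
  rcases h.eo with ⟨rfl, rfl⟩ | ⟨rfl, rfl⟩
  · exact (h3.mul_right h1).mul_right h2
  · exact (h3.mul_right h2).mul_right h1

omit [Finite G] in
theorem p_dvd : p ∣ q := by
  obtain ⟨n, hn⟩ := h.pow
  have := h.hq
  have := h.hc
  rw [hn]
  refine dvd_pow_self p ?_
  rintro rfl
  rw [pow_zero] at hn
  omega

omit [Finite G] in
theorem eq_p {r : ℕ} (hr : r.Prime) (h1 : r ∣ q) : r = p := by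
  obtain ⟨n, hn⟩ := h.pow
  exact (Nat.prime_dvd_prime_iff_eq hr h.hp).1 (hr.dvd_of_dvd_pow (hn ▸ h1))

omit [Finite G] in
theorem not_rs {r s : ℕ} (hr : r.Prime) (hs : s.Prime) : ¬ r * s ∣ p := fun h5 => by
  rcases (Nat.dvd_prime h.hp).1 h5 with h6 | h6
  · exact hr.ne_one (Nat.eq_one_of_mul_eq_one_right h6)
  · exact Nat.not_prime_mul hr.ne_one hs.ne_one (h6 ▸ h.hp)

omit [Finite G] in
theorem not_p : ¬ p ∣ 2 * e * o := fun h1 =>
  h.hp.ne_one (Nat.eq_one_of_dvd_coprimes h.copq h.p_dvd h1)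

theorem cent_p {x : G} (hx : orderOf x = p) : Nat.card (centralizer ({x} : Set G)) ∣ q := by
  refine card_cent_dvd hx h.card ((Nat.Prime.coprime_iff_not_dvd h.hp).2 h.not_p)
    fun s hs _ g hg => ?_
  rcases h.ord g with h1 | h1 | h1 <;> rw [hg] at h1
  · exact h.not_rs h.hp hs h1
  · exact h.not_p ((((dvd_mul_right _ _).trans h1).mul_left 2).mul_right o)
  · exact h.not_p (((dvd_mul_right _ _).trans h1).mul_left _)

theorem cent_two {t : G} (ht : orderOf t = 2) : Nat.card (centralizer ({t} : Set G)) ∣ 2 * e := by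
  have h1 : (2 * e).Coprime (q * o) :=
    (h.copq.coprime_dvd_right (dvd_mul_right _ _)).symm.mul_right h.cop
  refine card_cent_dvd (m := q * o) ht (by rw [h.card]; ring)
    (h1.coprime_dvd_left (dvd_mul_right _ _)) fun s hs h2 g hg => ?_
  rcases h.ord g with h3 | h3 | h3 <;> rw [hg] at h3
  · exact h.not_rs Nat.prime_two hs h3
  · exact hs.ne_one (Nat.eq_one_of_dvd_coprimes h1 (((dvd_mul_left _ _).trans h3).mul_left 2) h2)
  · exact absurd (Nat.eq_one_of_dvd_coprimes h.cop (dvd_mul_right _ _)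
      ((dvd_mul_right _ _).trans h3)) (by norm_num)

/-- no element of order prime to `p` commutes with a non-trivial `p`-element -/
theorem comm_p {a d : G} (ha : orderOf a ∣ q) (ha1 : a ≠ 1) (hd : ¬ p ∣ orderOf d)
    (hc : d * a = a * d) : d = 1 := by
  obtain ⟨r, hr, h1⟩ := Nat.exists_prime_and_dvd (orderOf_eq_one_iff.not.2 ha1)
  obtain rfl := h.eq_p hr (h1.trans ha)
  have h2 := h.cent_p (orderOf_pow_orderOf_div (orderOf_pos a).ne' h1)
  have h3 := (Subgroup.orderOf_dvd_natCard _ (mem_centralizer_singleton_iff.2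
    (Commute.pow_right hc (orderOf a / r)).eq)).trans h2
  by_contra h4
  obtain ⟨s, hs, h5⟩ := Nat.exists_prime_and_dvd (orderOf_eq_one_iff.not.2 h4)
  exact hd (h.eq_p hs (h5.trans h3) ▸ h5)

theorem small {N : Subgroup G} (hN : N.Normal) (h1 : Nat.card N ∣ 2 * e ∨ Nat.card N ∣ o) :
    N = ⊥ := by
  by_contra h0
  haveI := Fact.mk h.hp
  have hq := h.hq
  have hc := h.hc
  have heo := h.eo
  have hp : ¬ p ∣ Nat.card N := fun h2 => h.not_p (by
    rcases h1 with h1 | h1
    · exact (h2.trans h1).mul_right o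
    · exact (h2.trans h1).mul_left _)
  obtain ⟨r, hr, h2⟩ := Nat.exists_prime_and_dvd (Subgroup.card_eq_one.not.2 h0)
  obtain ⟨n, hn⟩ := h.pow
  obtain ⟨P, hP⟩ := Sylow.exists_subgroup_card_pow_prime (G := G) p (n := n)
    (by rw [← hn, h.card]; exact dvd_mul_right _ _)
  have h3 := card_dvd_ncard P {a | a ∈ N ∧ orderOf a = r}
    (fun d _ a ha => ⟨hN.conj_mem a ha.1 d, ((MulAut.conj d).orderOf_eq a).trans ha.2⟩)
    fun d hd a ha h4 => by
      by_contra h5
      have h6 := h.comm_p (d := a) (hn ▸ hP ▸ Subgroup.orderOf_dvd_natCard P hd) h5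
        (fun h6 => hp (h6.trans (Subgroup.orderOf_dvd_natCard N ha.1)))
        (mul_inv_eq_iff_eq_mul.1 h4).symm
      have h7 := ha.2
      rw [h6, orderOf_one] at h7
      exact hr.ne_one h7.symm
  rw [hP, ← hn] at h3
  haveI := Fact.mk hr
  obtain ⟨a, ha⟩ := exists_prime_orderOf_dvd_card' r h2
  have h4 := Nat.le_of_dvd ((Set.ncard_pos (Set.toFinite _)).2
    ⟨(a : G), show _ ∧ _ from ⟨a.2, by rw [orderOf_coe, ha]⟩⟩) h3
  have h5 : {a | a ∈ N ∧ orderOf a = r} ⊆ (N : Set G) \ {1} := fun b hb =>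
    ⟨hb.1, fun h6 => hr.ne_one (by rw [← hb.2, h6, orderOf_one])⟩
  have h6 : ((N : Set G) \ {1}).ncard = Nat.card N - 1 := by
    rw [Set.ncard_diff_singleton_of_mem N.one_mem, ← Nat.card_coe_set_eq]; rfl
  have h7 := Set.ncard_le_ncard h5
  have h8 : Nat.card N = 2 * e ∧ e = c + 1 := by
    rcases h1 with h1 | h1
    · have := Nat.le_of_dvd (by omega) h1
      omega
    · have := Nat.le_of_dvd (by omega) h1
      omega
  have h9 := Set.eq_of_subset_of_ncard_le h5 (by omega)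
  obtain ⟨y, hy⟩ := h.exe
  have h10 : y ∈ N := by
    have h11 : N.index = q * o := by
      have := N.index_mul_card
      rw [h8.1, h.card] at this
      exact Nat.eq_of_mul_eq_mul_right (by omega) (this.trans (by ring))
    rw [← QuotientGroup.eq_one_iff, ← orderOf_eq_one_iff]
    refine Nat.eq_one_of_dvd_coprimes
      ((h.copq.coprime_dvd_right (dvd_mul_right _ _)).symm.mul_right h.cop) ?_
      (h11 ▸ orderOf_dvd_natCard _)
    exact (hy ▸ orderOf_map_dvd (QuotientGroup.mk' N) y : _ ∣ e).mul_left 2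
  have h11 : y ∈ {a | a ∈ N ∧ orderOf a = r} := by
    rw [h9]
    exact ⟨h10, fun h12 => by rw [h12, orderOf_one] at hy; omega⟩
  have h12 := (Nat.prime_dvd_prime_iff_eq Nat.prime_two hr).1 (h11.2 ▸ hy ▸ h.ev)
  have h13 := h11.2
  omega

theorem solv_normal (N : Subgroup G) (hN : N.Normal) (hs : Group.IsSolvable N) : N = ⊥ := by
  by_contra h0
  obtain ⟨M, hM, h1, hle, hmin⟩ := Core.exists_minimal_normal_le N h0
  haveI : Group.IsSolvable M := Group.isSolvable_of_isSolvable_injective (inclusion_injective hle)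
  obtain ⟨r, hr, he⟩ := Core.minimal_normal_elementary M inferInstance h1 hmin
  haveI := Fact.mk hr
  obtain ⟨k, hk⟩ := IsPGroup.iff_card.1 (Core.IsElementaryAbelian.isPGroup he)
  have h2 : r ^ k ∣ q * (2 * e * o) := hk ▸ h.card ▸ card_subgroup_dvd_card M
  by_cases h3 : r ∣ q
  · obtain rfl := h.eq_p hr h3
    have h4 : Nat.card M ∣ q := hk ▸ Nat.Coprime.dvd_of_dvd_mul_right
      (((Nat.Prime.coprime_iff_not_dvd hr).2 h.not_p).pow_left k) h2
    have key : ∀ y : G, ¬ r ∣ orderOf y → orderOf y ∣ Nat.card M - 1 := fun y hy => by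
      have h5 := card_dvd_ncard (zpowers y) ((M : Set G) \ {1})
        (fun d _ a ha => ⟨hM.conj_mem a ha.1 d, fun h5 => ha.2 (by simpa using h5)⟩)
        fun d hd a ha h5 => h.comm_p ((Subgroup.orderOf_dvd_natCard M ha.1).trans h4) ha.2
          (fun h6 => hy (h6.trans (orderOf_dvd_of_mem_zpowers hd))) (mul_inv_eq_iff_eq_mul.1 h5)
      rwa [Nat.card_zpowers, Set.ncard_diff_singleton_of_mem M.one_mem,
        ← Nat.card_coe_set_eq] at h5
    obtain ⟨y, hy⟩ := h.exe
    obtain ⟨w, hw⟩ := h.exo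
    have h5 := Nat.Coprime.mul_dvd_of_dvd_of_dvd (h.cop.coprime_dvd_left (dvd_mul_left e 2))
      (hy ▸ key y fun h5 => h.not_p (((hy ▸ h5 : r ∣ e).mul_left 2).mul_right o))
      (hw ▸ key w fun h5 => h.not_p ((hw ▸ h5 : r ∣ o).mul_left _))
    have h6 : 1 < Nat.card M := one_lt_card_iff_ne_bot M |>.2 h1
    have h7 := Nat.le_of_dvd (by omega) h5
    have hq := h.hq
    have hc := h.hc
    have h8 := Nat.le_of_dvd (by omega) h4
    have h9 : e * o = c * (c + 1) := by
      rcases h.eo with ⟨rfl, rfl⟩ | ⟨rfl, rfl⟩ <;> ring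
    have h10 : c * 3 ≤ c * (c + 1) := Nat.mul_le_mul_left _ (by omega)
    omega
  · have h4 := Nat.Coprime.dvd_of_dvd_mul_left
      (((Nat.Prime.coprime_iff_not_dvd hr).2 h3).pow_left k) h2
    refine h1 (h.small hM ?_)
    rw [hk]
    by_cases h5 : r ∣ o
    · exact Or.inr (Nat.Coprime.dvd_of_dvd_mul_left (((Nat.Prime.coprime_iff_not_dvd hr).2
        fun h6 => hr.ne_one (Nat.eq_one_of_dvd_coprimes h.cop h6 h5)).pow_left k) h4)
    · exact Or.inl (Nat.Coprime.dvd_of_dvd_mul_right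
        (((Nat.Prime.coprime_iff_not_dvd hr).2 h5).pow_left k) h4)

theorem cycZ : CycZ G := fun B hB => by
  haveI : Fact (Nat.Prime 2) := ⟨Nat.prime_two⟩
  obtain ⟨y, hy⟩ := h.exe
  have he : e ≠ 0 := hy ▸ (orderOf_pos y).ne'
  obtain ⟨S, hS⟩ := hB.exists_le_sylow
  have h1 : orderOf (y ^ (orderOf y / 2 ^ e.factorization 2)) = 2 ^ e.factorization 2 :=
    orderOf_pow_orderOf_div (orderOf_pos y).ne' (hy ▸ Nat.ordProj_dvd _ _)
  obtain ⟨Q, hQ⟩ := (IsPGroup.of_card (p := 2) (G := zpowers (y ^ (orderOf y / 2 ^ e.factorization 2)))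
    (by rw [Nat.card_zpowers, h1])).exists_le_sylow
  obtain ⟨g, rfl⟩ := MulAction.exists_smul_eq G S Q
  have h2 := hQ (mem_zpowers _)
  rw [Sylow.coe_subgroup_smul, mem_pointwise_smul_iff_inv_smul_mem, ← map_inv, MulAut.smul_def,
    map_pow] at h2
  have h3 : orderOf (MulAut.conj g⁻¹ y) = e := by rw [MulEquiv.orderOf_eq, hy]
  have h4 : orderOf (MulAut.conj g⁻¹ y ^ (orderOf y / 2 ^ e.factorization 2)) =
      2 ^ e.factorization 2 := by rw [← map_pow, MulEquiv.orderOf_eq, h1]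
  generalize MulAut.conj g⁻¹ y = x at h2 h3 h4
  have hodd : ¬ 2 ∣ q * o := fun h5 => absurd (Nat.eq_one_of_dvd_coprimes
    ((h.copq.coprime_dvd_right (dvd_mul_right _ _)).symm.mul_right h.cop) (dvd_mul_right 2 e) h5)
    (by norm_num)
  have h5 : Nat.card S = 2 * 2 ^ e.factorization 2 := by
    have h6 : q * o ≠ 0 := fun h6 => hodd (h6 ▸ dvd_zero 2)
    rw [Sylow.card_eq_multiplicity, h.card, show q * (2 * e * o) = 2 * (e * (q * o)) by ring,
      Nat.factorization_mul two_ne_zero (mul_ne_zero he h6), Nat.factorization_mul he h6,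
      Finsupp.add_apply, Finsupp.add_apply, Nat.factorization_eq_zero_of_not_dvd hodd,
      Nat.Prime.factorization_self Nat.prime_two, add_zero, pow_add, pow_one]
  refine ⟨zpowers x, inferInstance, fun a ha b hb => ?_, fun z hz hz2 => i2_of_dvd ?_ ?_⟩
  · have h6 : zpowers (x ^ (orderOf y / 2 ^ e.factorization 2)) ≤ zpowers x :=
      zpowers_le_of_mem (pow_mem (mem_zpowers x) _)
    exact (i2_of_dvd (zpowers_le_of_mem h2) (by rw [Nat.card_zpowers, h4, h5]) a (hS ha) b
      (hS hb)).imp (h6 ·) (Or.imp (h6 ·) (h6 ·))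
  · exact fun a ha => mem_centralizer_singleton_iff.2 (Inv.commute_of_mem_zpowers₂ ha hz).eq
  · rw [Nat.card_zpowers, h3]
    exact h.cent_two hz2

end Sp

theorem Sp.l2 {G : Type u} [Group G] [Finite G] {p q c e o : ℕ} (h : Sp G p q c e o) : L2 q G := by
  have hq := h.hq
  have hc := h.hc
  have heo := h.eo
  haveI : Nontrivial G := by
    obtain ⟨y, hy⟩ := h.exe
    exact nontrivial_of_ne y 1 fun h1 => by rw [h1, orderOf_one] at hy; omega
  have h1 : (2 * e).Coprime (q * o) :=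
    (h.copq.coprime_dvd_right (dvd_mul_right _ _)).symm.mul_right h.cop
  obtain ⟨N, hN, hs, hS | ⟨t, ht, K, hK, -, h2⟩⟩ := exists_min h.solv_normal
  swap
  · refine absurd (h.small hN (Or.inl (Nat.Coprime.dvd_of_dvd_mul_right (n := q * o)
      (Nat.coprime_of_dvd fun r hr h3 h4 => hr.ne_one (Nat.eq_one_of_dvd_coprimes h1
        (((h2 r hr h3).trans (card_dvd_of_le hK)).trans (h.cent_two ht)) h4)) ?_))) ?_
    · rw [show 2 * e * (q * o) = q * (2 * e * o) by ring, ← h.card]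
      exact card_subgroup_dvd_card N
    · rintro rfl
      exact hs inferInstance
  have hn : ¬ IsMulCommutative N := fun h2 => hs (Group.isSolvable_of_comm h2.1.1)
  have hD := (h.cycZ.sub N).dihSyl hn
  obtain ⟨t, ht, h2⟩ := index_dvd_of_dih hn hD
  have h3 : q ∣ Nat.card N := Nat.Coprime.dvd_of_dvd_mul_left
    (h.copq.coprime_dvd_right ((h2.trans (h.cent_two ht)).mul_right o))
    (by rw [N.index_mul_card, h.card]; exact dvd_mul_right _ _)
  have h4 : Nat.card N ∣ q * (2 * e * o) := h.card ▸ card_subgroup_dvd_card N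
  have h5 : e * o = c * (c + 1) := by
    rcases h.eo with ⟨rfl, rfl⟩ | ⟨rfl, rfl⟩ <;> ring
  rcases GW.known hn hD with ⟨F, _, _, ⟨d, hd⟩, h6, ⟨f⟩⟩ | ⟨⟨f⟩⟩
  · obtain ⟨hp, hpo, hpc, hpc', n, hn0, hF⟩ := char_facts hd
    have h7 : Nat.card N = Fintype.card F * (2 * d * (d + 1)) := by
      rw [Nat.card_congr f.toEquiv, card_psl2_odd hd, hd]
    have h8 : ∀ m, m ∣ ringChar F ∨ m ∣ d ∨ m ∣ d + 1 → m ∣ p ∨ m ∣ e ∨ m ∣ o := fun m hm => by
      obtain ⟨g, hg⟩ := ord_of_equiv f (exists_order_odd (by omega) hd hm)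
      rw [← hg, ← orderOf_coe]
      exact h.ord _
    have h9 : Fintype.card F ∣ q * (2 * e * o) := (dvd_mul_right _ _).trans (h7 ▸ h4)
    by_cases h10 : ringChar F = p
    · have h11 : Fintype.card F ∣ q := Nat.Coprime.dvd_of_dvd_mul_right (by
        rw [hF, h10]; exact ((Nat.Prime.coprime_iff_not_dvd h.hp).2 h.not_p).pow_left n) h9
      have h12 : q ∣ Fintype.card F := by
        obtain ⟨k, hk⟩ := h.pow
        refine Nat.Coprime.dvd_of_dvd_mul_right ?_ (h7 ▸ h3)
        rw [hk, ← h10]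
        refine ((Nat.Prime.coprime_iff_not_dvd hp).2 fun h12 => ?_).pow_left k
        rcases (Nat.Prime.dvd_mul hp).1 h12 with h13 | h13
        · rcases (Nat.Prime.dvd_mul hp).1 h13 with h14 | h14
          · exact hp.ne_one (odd_dvd_two_pow (k := 1) hpo h14)
          · exact hpc h14
        · exact hpc' h13
      have h13 := Nat.dvd_antisymm h11 h12
      have h14 : N = ⊤ := eq_top_of_card_eq N (by
        rw [h7, h.card, h13, show d = c by omega, mul_assoc 2 e, h5, mul_assoc])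
      subst h14
      exact ⟨F, inferInstance, inferInstance, h13, ⟨topEquiv.symm.trans f⟩⟩
    exfalso
    have h11 : q.Coprime (Fintype.card F) := by
      obtain ⟨k, hk⟩ := h.pow
      rw [hk, hF]
      exact Nat.Coprime.pow _ _ ((Nat.coprime_primes h.hp hp).2 (Ne.symm h10))
    have h12 : q ∣ d * (d + 1) := by
      have h13 := Nat.Coprime.dvd_of_dvd_mul_left h11 (h7 ▸ h3)
      rw [mul_assoc] at h13
      exact Nat.Coprime.dvd_of_dvd_mul_left (by rw [hq]; simp) h13
    have h13 : ∀ m, p ∣ m → (m ∣ d ∨ m ∣ d + 1) → m ∣ q := fun m hm h14 => by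
      rcases h8 m (Or.inr h14) with h15 | h15 | h15
      · exact h15.trans h.p_dvd
      · exact absurd (((hm.trans h15).mul_left 2).mul_right o) h.not_p
      · exact absurd ((hm.trans h15).mul_left _) h.not_p
    have h14 : q ≤ d + 1 := by
      obtain ⟨k, hk⟩ := h.pow
      by_cases h15 : p ∣ d
      · have h16 : ¬ p ∣ d + 1 := fun h16 => h.hp.ne_one
          (Nat.eq_one_of_dvd_coprimes (by simp) h15 h16)
        have := Nat.le_of_dvd (by omega) (Nat.Coprime.dvd_of_dvd_mul_right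
          (hk ▸ ((Nat.Prime.coprime_iff_not_dvd h.hp).2 h16).pow_left k) h12)
        omega
      · exact Nat.le_of_dvd (by omega) (Nat.Coprime.dvd_of_dvd_mul_left
          (hk ▸ ((Nat.Prime.coprime_iff_not_dvd h.hp).2 h15).pow_left k) h12)
    have h15 := Nat.Coprime.dvd_of_dvd_mul_left h11.symm h9
    rw [mul_assoc] at h15
    have h16 := Nat.Coprime.dvd_of_dvd_mul_left (show (Fintype.card F).Coprime 2 by
      rw [hd]; simp) h15
    have h17 : Fintype.card F ∣ e ∨ Fintype.card F ∣ o := by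
      rw [hF] at h16 ⊢
      by_cases h17 : ringChar F ∣ o
      · exact Or.inr (Nat.Coprime.dvd_of_dvd_mul_left (((Nat.Prime.coprime_iff_not_dvd hp).2
          fun h18 => hp.ne_one (Nat.eq_one_of_dvd_coprimes h.cop (h18.mul_left 2) h17)).pow_left n)
          h16)
      · exact Or.inl (Nat.Coprime.dvd_of_dvd_mul_right
          (((Nat.Prime.coprime_iff_not_dvd hp).2 h17).pow_left n) h16)
    rcases h17 with h17 | h17
    · have := Nat.le_of_dvd (by omega) h17
      omega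
    · have := Nat.le_of_dvd (by omega) h17
      omega
  · exfalso
    have h7 : Nat.card N = 2520 := by
      rw [Nat.card_congr f.toEquiv, nat_card_alternatingGroup]
      simp [Nat.factorial]
    have h8 : q ≤ 9 := by
      have h9 : ∀ d ∈ Nat.divisors 2520, IsPrimePow d → d ≤ 9 := by decide +kernel
      obtain ⟨k, hk⟩ := h.pow
      refine h9 q (Nat.mem_divisors.2 ⟨h7 ▸ h3, by norm_num⟩) ?_
      rw [hk]
      refine h.hp.isPrimePow.pow ?_
      rintro rfl
      rw [pow_zero] at hk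
      omega
    have h9 := Nat.le_of_dvd (h.card ▸ Nat.card_pos) h4
    rw [h7, mul_assoc, h5, hq] at h9
    have h10 : c ≤ 4 := by omega
    interval_cases c <;> omega

end Cfsg.Agent.CIT.F
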