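import Mathlib
import Cfsg.Agent.CIT.F12
import Cfsg.Agent.S3214
import Cfsg.Agent.Part.Main

/-! Groups in which all nontrivial subgroups of a cyclic subgroup of even order have the same
normaliser. -/

set_option autoImplicit false

namespace Cfsg.Agent.CIT.F

open Subgroup Matrix Cfsg.Agent.GW Cfsg.Agent.Classical.AutPSL Cfsg.Agent.Classical.AutPSL2
open scoped MatrixGroups

/-- whatever normalises a nontrivial subgroup of `⟨x⟩`, `x` of even order, normalises `⟨x⟩` -/
def KN {G : Type*} [Group G] (X : Subgroup G) : Prop :=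
  ∀ x ∈ X, ∀ g ∈ X, ∀ y ∈ zpowers x, Even (orderOf x) → y ≠ 1 → g * y * g⁻¹ ∈ zpowers y →
    g * x * g⁻¹ ∈ zpowers x

variable {G H : Type*} [Group G] [Group H]

theorem KN.map {X : Subgroup G} (h : KN X) {f : G →* H} (hf : Function.Injective f) :
    KN (X.map f) := by
  have k : ∀ a b : G, f a ∈ zpowers (f b) ↔ a ∈ zpowers b := fun a b => by
    rw [← MonoidHom.map_zpowers, mem_map_iff_mem hf]
  rintro _ ⟨x, hx, rfl⟩ _ ⟨g, hg, rfl⟩ y hy h1 h2 h3
  rw [← MonoidHom.map_zpowers] at hy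
  obtain ⟨y, hy, rfl⟩ := hy
  rw [← map_inv, ← map_mul, ← map_mul, k] at h3 ⊢
  exact h x hx g hg y hy (by rwa [orderOf_injective f hf] at h1) (fun e => h2 (by rw [e, map_one]))
    h3

theorem KN.comap {X : Subgroup H} (h : KN X) {f : G →* H} (hf : Function.Injective f) :
    KN (X.comap f) := by
  have k : ∀ a b : G, f a ∈ zpowers (f b) ↔ a ∈ zpowers b := fun a b => by
    rw [← MonoidHom.map_zpowers, mem_map_iff_mem hf]
  intro x hx g hg y hy h1 h2 h3
  rw [← k, map_mul, map_mul, map_inv] at h3 ⊢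
  exact h _ hx _ hg _ ((k _ _).2 hy) (by rwa [orderOf_injective f hf])
    (fun e => h2 (hf (e.trans (map_one f).symm))) h3

theorem KN.top (h : KN (⊤ : Subgroup H)) {f : G →* H} (hf : Function.Injective f) :
    KN (⊤ : Subgroup G) := h.comap hf

theorem comm_of_zpowers {x a : G} (h : a ∈ zpowers x) : a * x = x * a := by
  obtain ⟨k, rfl⟩ := h
  exact (Commute.refl x).zpow_left k

theorem KN.comm {X : Subgroup G} (h : KN X) {x g y : G} (hx : x ∈ X) (hg : g ∈ X)
    (hy : y ∈ zpowers x) (h1 : Even (orderOf x)) (h2 : y ≠ 1) (h3 : g * y = y * g) :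
    g * x * g⁻¹ ∈ zpowers x :=
  h x hx g hg y hy h1 h2 (by rw [h3, mul_inv_cancel_right]; exact mem_zpowers y)

section
variable {v t : G} (hv : Odd (orderOf v)) (ht : orderOf t = 2) (hc : v * t = t * v)
include hv ht hc

theorem vt_pow : (v * t) ^ orderOf v = t := by
  obtain ⟨k, hk⟩ := hv
  rw [(show Commute v t from hc).mul_pow, pow_orderOf_eq_one, one_mul, hk, pow_succ, pow_mul,
    ← ht, pow_orderOf_eq_one, one_pow, one_mul]

theorem vt_pow' : (v * t) ^ (orderOf v + 1) = v := by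
  have : t * t = 1 := by rw [← sq, ← ht, pow_orderOf_eq_one]
  rw [pow_succ, vt_pow hv ht hc, hc, ← mul_assoc, this, one_mul]

theorem vt_even : Even (orderOf (v * t)) := by
  have := orderOf_pow_dvd (x := v * t) (orderOf v)
  rw [vt_pow hv ht hc, ht] at this
  exact even_iff_two_dvd.2 this

theorem KN.cent {X : Subgroup G} (h : KN X) (h1 : v ∈ X) (h2 : t ∈ X) (h3 : v ≠ 1) {g : G}
    (hg : g ∈ X) (h4 : g * v = v * g) : g * t = t * g := by
  obtain ⟨k, hk⟩ := h.comm (mul_mem h1 h2) hg ⟨((orderOf v + 1 : ℕ) : ℤ), by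
    simpa only [zpow_natCast] using vt_pow' hv ht hc⟩ (vt_even hv ht hc) h3 h4
  have e : g * t * g⁻¹ = t ^ k := by
    conv_lhs => rw [← vt_pow hv ht hc, ← conj_pow, ← hk]
    conv_rhs => rw [← vt_pow hv ht hc]
    simp only [← zpow_natCast, ← _root_.zpow_mul, mul_comm]
  have h5 : t ^ k ≠ 1 := fun e' => by
    rw [e', mul_inv_eq_one, mul_eq_left] at e
    rw [e, orderOf_one] at ht
    omega
  rw [← zpow_mod_orderOf, ht] at e h5
  rcases Int.emod_two_eq_zero_or_one k with h6 | h6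
  · exact absurd (by rw [Nat.cast_ofNat, h6, zpow_zero]) h5
  · rw [Nat.cast_ofNat, h6, zpow_one, mul_inv_eq_iff_eq_mul] at e
    exact e

theorem KN.norm {X : Subgroup G} (h : KN X) (h1 : v ∈ X) (h2 : t ∈ X) {g : G}
    (hg : g ∈ X) (h4 : g * t = t * g) : g * v * g⁻¹ ∈ zpowers v := by
  obtain ⟨k, hk⟩ := h.comm (mul_mem h1 h2) hg ⟨((orderOf v : ℕ) : ℤ), by
    simpa only [zpow_natCast] using vt_pow hv ht hc⟩ (vt_even hv ht hc)
    (fun e => by rw [e, orderOf_one] at ht; omega) h4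
  refine ⟨k, ?_⟩
  conv_rhs => rw [← vt_pow' hv ht hc, ← conj_pow, ← hk]
  conv_lhs => rw [← vt_pow' hv ht hc]
  simp only [← zpow_natCast, ← _root_.zpow_mul, mul_comm]

end

theorem KN.npc [Finite G] (h : KN (⊤ : Subgroup G)) : NPC G := fun t ht => by
  haveI : Fact (Nat.Prime 2) := ⟨Nat.prime_two⟩
  refine Transfer.hasNormalPComplement_iff_mul.2 fun x y hx hy => ?_
  rw [Nat.coprime_two_right] at hx hy ⊢
  haveI : (zpowers x).Normal := ⟨fun n hn g => by
    obtain ⟨k, rfl⟩ := hn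
    rw [← conj_zpow]
    refine zpow_mem ?_ k
    obtain ⟨j, hj⟩ := h.norm (by rwa [orderOf_coe]) ht (mem_centralizer_singleton_iff.1 x.2)
      trivial trivial trivial (mem_centralizer_singleton_iff.1 g.2)
    exact ⟨j, Subtype.ext (by simpa using hj)⟩⟩
  have h1 : (x * y) ^ orderOf y ∈ zpowers x := by
    rw [← QuotientGroup.eq_one_iff, QuotientGroup.mk_pow, QuotientGroup.mk_mul,
      (QuotientGroup.eq_one_iff x).2 (mem_zpowers x), one_mul, ← QuotientGroup.mk_pow,
      pow_orderOf_eq_one, QuotientGroup.mk_one]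
  refine (hy.mul hx).of_dvd_nat (orderOf_dvd_of_pow_eq_one ?_)
  rw [pow_mul]
  exact orderOf_dvd_iff_pow_eq_one.1 (orderOf_dvd_of_mem_zpowers h1)

theorem not_kn_A7 : ¬ KN (⊤ : Subgroup (alternatingGroup (Fin 7))) := fun h => by
  let v : alternatingGroup (Fin 7) := ⟨c[4, 5, 6], Equiv.Perm.mem_alternatingGroup.2 (by decide)⟩
  let t : alternatingGroup (Fin 7) :=
    ⟨c[0, 1] * c[2, 3], Equiv.Perm.mem_alternatingGroup.2 (by decide)⟩
  let g : alternatingGroup (Fin 7) := ⟨c[0, 1, 2], Equiv.Perm.mem_alternatingGroup.2 (by decide)⟩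
  haveI : Fact (Nat.Prime 3) := ⟨Nat.prime_three⟩
  have hv : orderOf v = 3 := orderOf_eq_prime (by decide) (by decide)
  exact absurd (h.cent (v := v) (t := t) (by rw [hv]; decide)
    (orderOf_eq_prime (by decide) (by decide)) (by decide) trivial trivial (by decide) (g := g)
    trivial (by decide)) (by decide)

theorem mem_zpowers_four {x a : G} (hx : x ^ 4 = 1) (h : a ∈ zpowers x) :
    a = 1 ∨ a = x ∨ a = x * x ∨ a = x * x * x := by
  obtain ⟨k, rfl⟩ := h
  have h1 : x ^ (4 : ℤ) = 1 := by exact_mod_cast hx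
  simp only
  rw [zpow_eq_zpow_emod k h1]
  have h2 := Int.emod_nonneg k (show (4 : ℤ) ≠ 0 by decide)
  have h3 := Int.emod_lt_of_pos k (show (0 : ℤ) < 4 by decide)
  interval_cases k % 4
  · simp
  · simp
  · simp [zpow_ofNat, sq]
  · simp [zpow_ofNat, pow_succ]

theorem not_kn_sz (h1 : Cfsg.Lie.IsoSuzuki G) : ¬ KN (⊤ : Subgroup G) := fun h => by
  obtain ⟨F, _, _, m, hm, hF, ⟨e⟩⟩ := h1
  obtain ⟨_, ⟨Z⟩⟩ := RankOne.Sz.exists_model_of_equiv_lie hF hm e
  haveI := Z.charP
  have h2 : ∀ a : F, a + a = 0 := CharTwo.add_self_eq_zero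
  have k : ∀ u : F, Z.θ u = u ∨ Z.θ u = u + 1 := fun u => by
    have h3 := h.comm (x := Z.S 1 0) (g := Z.S u 0) (y := Z.S 0 1) trivial trivial
      ⟨2, by simp [zpow_ofNat, sq, Z.S_sq]⟩ (by rw [Z.orderOf_S one_ne_zero]; decide)
      (by simp [Z.S_eq_one_iff]) (Z.S_zero_comm _ _ _).symm
    have h4 := mem_zpowers_four (Z.pow_four_of_mem_Q (Z.S_mem _ _)) h3
    simp only [Z.S_inv, Z.S_mul, Z.S_eq_one_iff] at h4
    rcases h4 with ⟨h4, -⟩ | h4 | h4 | h4
    · exact absurd (by linear_combination h4 - h2 u) (one_ne_zero' F)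
    · have := (Z.S_inj h4).2
      simp only [map_add, map_one] at this
      exact Or.inl (by linear_combination this - h2 (Z.θ u * u) - h2 u)
    · exact absurd (by linear_combination h2 u - (Z.S_inj h4).1) (one_ne_zero' F)
    · have := (Z.S_inj h4).2
      simp only [map_add, map_one] at this
      exact Or.inr (by linear_combination this - h2 (Z.θ u * u) - h2 u + h2 1)
  obtain ⟨y, hy⟩ := Z.exists_θ_ne
  have h5 : ∀ u : F, u ^ 2 = u := fun u => by
    rw [← Z.θθ]
    rcases k u with h6 | h6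
    · rw [h6, h6]
    · rw [h6, map_add, map_one, h6, add_assoc, h2, add_zero]
  rcases k y with h6 | h6
  · exact hy (by rw [h6, h5])
  · rcases mul_eq_zero.1 (show y * (y - 1) = 0 by linear_combination h5 y) with h7 | h7
    · simp [h7] at h6
    · simp [sub_eq_zero.1 h7] at h6

/-- upper unitriangular matrices -/
def ut {F : Type*} [Field F] (x y d : F) : SpecialLinearGroup (Fin 3) F :=
  ⟨!![1, x, d; 0, 1, y; 0, 0, 1], by simp [det_fin_three]⟩

theorem ut_mul {F : Type*} [Field F] (x y d x' y' d' : F) :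
    ut x y d * ut x' y' d' = ut (x + x') (y + y') (d + d' + x * y') := by
  apply Subtype.ext
  change (ut x y d).1 * (ut x' y' d').1 = _
  ext i j
  fin_cases i <;> fin_cases j <;> simp [ut, Matrix.mul_apply, Fin.sum_univ_three] <;> ring

theorem ut_zero {F : Type*} [Field F] : ut (0 : F) 0 0 = 1 := by
  apply Subtype.ext
  ext i j
  fin_cases i <;> fin_cases j <;> simp [ut]

theorem ut_inj {F : Type*} [Field F] {x y d x' y' d' : F}
    (h : QuotientGroup.mk' (center _) (ut x y d) = QuotientGroup.mk' (center _) (ut x' y' d')) :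
    x = x' ∧ y = y' ∧ d = d' := by
  obtain ⟨z, hz, h1⟩ := (QuotientGroup.mk'_eq_mk' _).1 h
  obtain ⟨r, -, hr⟩ := Matrix.SpecialLinearGroup.mem_center_iff.1 hz
  replace h1 : (ut x y d).1 * z.1 = (ut x' y' d').1 := congrArg Subtype.val h1
  rw [← hr] at h1
  have e := fun i j => congrFun (congrFun h1 i) j
  have e0 := e 0 0
  have e1 := e 0 1
  have e2 := e 1 2
  have e3 := e 0 2
  simp [ut] at e0 e1 e2 e3
  simp only [e0, mul_one] at e1 e2 e3
  exact ⟨e1, e2, e3⟩

theorem exists_ne_zero_one {F : Type*} [Field F] [Fintype F] (h : 2 < Fintype.card F) :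
    ∃ a : F, a ≠ 0 ∧ a ≠ 1 := by
  classical
  by_contra h1
  push Not at h1
  have := Finset.card_le_card (s := Finset.univ) (t := ({0, 1} : Finset F)) fun a _ => by
    by_cases e : a = 0 <;> simp [e, h1 a]
  have h2 := Finset.card_le_two (a := (0 : F)) (b := 1)
  rw [Finset.card_univ] at this
  omega

theorem not_kn_l34 (h1 : L34 G) : ¬ KN (⊤ : Subgroup G) := fun h => by
  obtain ⟨F, _, _, hF, ⟨e⟩⟩ := h1
  haveI : CharP F 2 := ringChar_of_card (p := 2) (k := 2) Nat.prime_two hF ▸ ringChar.charP F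
  have h2 : ∀ a : F, a + a = 0 := CharTwo.add_self_eq_zero
  obtain ⟨a, ha, ha'⟩ := exists_ne_zero_one (F := F) (by omega)
  let π := QuotientGroup.mk' (center (SpecialLinearGroup (Fin 3) F))
  have hy : π (ut 0 0 1) ≠ 1 := fun e => one_ne_zero (ut_inj (e.trans (congrArg π ut_zero).symm)).2.2
  have hx : π (ut 1 1 0) ^ 2 = π (ut 0 0 1) := by
    rw [← map_pow, sq, ut_mul]; simp [h2]
  have hy2 : π (ut 0 0 1) ^ 2 = 1 := by
    rw [← map_pow, sq, ut_mul]; simp [h2, ut_zero]
  have h3 := (h.top (f := e.symm.toMonoidHom) e.symm.injective).comm (x := π (ut 1 1 0))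
    (g := π (ut a 0 0)) (y := π (ut 0 0 1)) trivial trivial ⟨2, by rw [← hx]; rfl⟩
    (even_iff_two_dvd.2 (by
      have := orderOf_pow_dvd (x := π (ut 1 1 0)) 2
      rwa [hx, orderOf_eq_prime hy2 hy] at this)) hy
    (by rw [← map_mul, ← map_mul, ut_mul, ut_mul]; simp)
  have h4 := mem_zpowers_four (by rw [show 4 = 2 * 2 from rfl, pow_mul, hx, hy2]) h3
  have h5 : (ut a 0 0)⁻¹ = ut a 0 0 := inv_eq_of_mul_eq_one_left (by rw [ut_mul]; simp [h2, ut_zero])
  rw [← map_inv, h5, ← map_one π, ← ut_zero] at h4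
  simp only [← map_mul, ut_mul] at h4
  rcases h4 with h4 | h4 | h4 | h4
  · simpa using (ut_inj h4).2.1
  · exact ha (by simpa using (ut_inj h4).2.2)
  · simpa using (ut_inj h4).2.1
  · exact ha' (by simpa [h2] using (ut_inj h4).2.2)

section aut

variable {F : Type*} [Field F]

/-- an invertible matrix from its entries -/
def gm (a b c d : F) (h : a * d - b * c ≠ 0) : GL (Fin 2) F :=
  GeneralLinearGroup.mkOfDetNeZero !![a, b; c, d] (by rwa [det_fin_two_of])

@[simp] theorem gm_val (a b c d : F) (h : a * d - b * c ≠ 0) : (gm a b c d h).1 = !![a, b; c, d] :=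
  rfl

theorem gm_inn {a b c d : F} (h : a * d - b * c ≠ 0) (h1 : IsSquare (a * d - b * c)) :
    dA (gm a b c d h) ∈ Inn PSL(2, F) := PG.dA_mem_inn.2 (by rwa [gm_val, det_fin_two_of])

theorem fA_gm {σ : F ≃+* F} {a b c d : F} (h : a * d - b * c ≠ 0) :
    fA (Fin 2) σ * dA (gm a b c d h) = dA (gm (σ a) (σ b) (σ c) (σ d) (by
      rwa [← map_mul, ← map_mul, ← map_sub, map_ne_zero])) * fA (Fin 2) σ := by
  rw [fA_mul_dA]
  congr 2
  ext i j
  fin_cases i <;> fin_cases j <;> rfl

theorem dA_mul_eq {g h g' h' : GL (Fin 2) F} (e : dA g * dA h = dA g' * dA h') :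
    ∃ c : F, ∀ i j, (g.1 * h.1) i j = c * (g'.1 * h'.1) i j := by
  rw [← map_mul, ← map_mul, PG.dA_eq] at e
  obtain ⟨c, hc⟩ := e
  exact ⟨c, fun i j => congrFun (congrFun hc i) j⟩

theorem dA_pow_one {g : GL (Fin 2) F} {n : ℕ} (h : g.1 ^ n = 1) : orderOf (dA g) ∣ n :=
  orderOf_dvd_of_pow_eq_one (by
    rw [← map_pow, show g ^ n = 1 from Units.ext (by rwa [Units.val_pow_eq_pow_val]), map_one])

theorem u_pow (n : ℕ) : (!![1, 1; 0, 1] : Matrix (Fin 2) (Fin 2) F) ^ n = !![1, (n : F); 0, 1] := by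
  induction n with
  | zero => simp [Matrix.one_fin_two]
  | succ n ih => rw [pow_succ, ih]; simp [add_comm]

theorem d_pow (a : F) (n : ℕ) :
    (!![a, 0; 0, 1] : Matrix (Fin 2) (Fin 2) F) ^ n = !![a ^ n, 0; 0, 1] := by
  induction n with
  | zero => simp [Matrix.one_fin_two]
  | succ n ih => rw [pow_succ, ih]; simp [pow_succ]

theorem two_w : orderOf (dA (gm (0 : F) 1 (-1) 0 (by simp))) = 2 := by
  refine orderOf_eq_prime ?_ fun e => ?_
  · rw [sq, ← map_mul, PG.dA_one]
    exact ⟨-1, by simp [Matrix.one_fin_two]⟩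
  · obtain ⟨c, hc⟩ := PG.dA_one.1 e
    simpa using congrFun (congrFun hc 0) 1

variable [Fintype F] {X : Subgroup (MulAut PSL(2, F))}

theorem exists_fixed [CharP F 2] (h4 : 4 < Fintype.card F) {τ : F ≃+* F} (hτ : τ * τ = 1) :
    ∃ a : F, a ≠ 0 ∧ a ≠ 1 ∧ τ a = a := by
  classical
  by_contra h
  push Not at h
  have h1 : ∀ a : F, τ a = a → a = 0 ∨ a = 1 := fun a ha => by
    by_contra e
    push Not at e
    exact h a e.1 e.2 ha
  have h2 : ∀ a, τ (τ a) = a := fun a => congrArg (fun f : F ≃+* F => f a) hτ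
  have h3 : ∀ a : F, a ^ 4 = a := fun a => by
    have h2' : (2 : F) = 0 := CharTwo.two_eq_zero
    rcases h1 (a * τ a) (by rw [map_mul, h2, mul_comm]) with e | e
    · rcases mul_eq_zero.1 e with e | e
      · simp [e]
      · simp [(map_eq_zero τ).1 e]
    · rcases h1 (a + τ a) (by rw [map_add, h2, add_comm]) with e' | e'
      · have : a ^ 2 = 1 := by linear_combination a * e' - e - h2'
        have : a = 1 := by
          have h5 : (a - 1) ^ 2 = 0 := by linear_combination this + (1 - a) * h2'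
          exact sub_eq_zero.1 (pow_eq_zero_iff two_ne_zero |>.1 h5)
        simp [this]
      · have : a ^ 2 + a + 1 = 0 := by linear_combination a * e' - e + a * h2'
        linear_combination (a ^ 2 - a) * this
  have h5 := Polynomial.card_le_degree_of_subset_roots (Z := Finset.univ)
    (p := (Polynomial.X ^ 4 - Polynomial.X : Polynomial F)) fun a _ => by
      rw [Polynomial.mem_roots (FiniteField.X_pow_card_sub_X_ne_zero F (by norm_num))]
      simp [h3]
  rw [FiniteField.X_pow_card_sub_X_natDegree_eq F (by norm_num), Finset.card_univ] at h5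
  omega

theorem KN.not_fA (h : KN X) (hL : Inn PSL(2, F) ≤ X) (h4 : 4 < Fintype.card F) {τ : F ≃+* F}
    (hτ : (orderOf τ).Prime) : fA (Fin 2) τ ∉ X := fun hX => by
  have ho := orderOf_injective _ (fA_injective (ι := Fin 2) (F := F)) τ
  have hu : dA (gm (1 : F) 1 0 1 (by simp)) ∈ X := hL (gm_inn _ (by simp))
  have hw : dA (gm (0 : F) 1 (-1) 0 (by simp)) ∈ X := hL (gm_inn _ (by simp))
  rcases hτ.eq_two_or_odd' with h2 | h2
  · by_cases hc : ringChar F = 2
    · haveI : CharP F 2 := hc ▸ ringChar.charP F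
      obtain ⟨a, ha, ha', e⟩ := exists_fixed h4 (τ := τ) (by rw [← sq, ← h2, pow_orderOf_eq_one])
      have h5 := comm_of_zpowers (h.norm (v := dA (gm a 0 0 1 (by simpa)))
        (Odd.of_dvd_nat (n := Fintype.card F - 1) ?_ (dA_pow_one ?_)) (ho.trans h2)
        (by rw [fA_gm]; simp only [e, map_zero, map_one])
        (hL (gm_inn _ (FiniteField.isSquare_of_char_two hc _))) hX hu
        (by rw [fA_gm]; simp only [map_zero, map_one]))
      · rw [← map_inv, ← map_mul, ← map_mul] at h5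
        obtain ⟨c, h6⟩ := dA_mul_eq h5
        have e1 := h6 1 1
        have e2 := h6 0 1
        simp [Matrix.inv_def, Matrix.det_fin_two, Matrix.adjugate_fin_two] at e1 e2
        rw [← e1] at e2
        exact ha' (pow_eq_zero_iff two_ne_zero |>.1 (show (a - 1) ^ 2 = 0 by
          linear_combination e2) |> sub_eq_zero.1)
      · have := FiniteField.even_card_of_char_two hc
        rw [Nat.odd_iff]
        omega
      · rw [gm_val, d_pow, FiniteField.pow_card_sub_one_eq_one a ha, Matrix.one_fin_two]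
    · have h5 := comm_of_zpowers (h.norm (v := dA (gm 1 1 0 1 (by simp)))
        (Odd.of_dvd_nat (n := Fintype.card F) ?_ (dA_pow_one ?_)) (ho.trans h2)
        (by rw [fA_gm]; simp only [map_zero, map_one]) hu hX hw
        (by rw [fA_gm]; simp only [map_zero, map_one, map_neg]))
      · rw [← map_inv, ← map_mul, ← map_mul] at h5
        obtain ⟨c, h6⟩ := dA_mul_eq h5
        have e1 := h6 0 0
        have e2 := h6 0 1
        simp [Matrix.inv_def, Matrix.det_fin_two, Matrix.adjugate_fin_two] at e1 e2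
      · exact Nat.odd_iff.2 (FiniteField.odd_card_of_char_ne_two hc)
      · rw [gm_val, u_pow, FiniteField.cast_card_eq_zero, Matrix.one_fin_two]
  · obtain ⟨c, h6⟩ := dA_mul_eq (h.cent (ho ▸ h2) two_w
      (by rw [fA_gm]; simp only [map_zero, map_one, map_neg]) hX hw
      (fun e => by rw [e, orderOf_one] at ho; exact hτ.one_lt.ne ho) hu
      (by rw [fA_gm]; simp only [map_zero, map_one]))
    have e1 := h6 0 0
    simp at e1

theorem not_sq_gen (hc : ringChar F ≠ 2) {z : Fˣ} (hz : ∀ x, x ∈ zpowers z) :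
    ¬ IsSquare (z : F) := fun ⟨b, hb⟩ => by
  obtain ⟨a, ha⟩ := FiniteField.exists_nonsquare hc
  have h0 : a ≠ 0 := fun e => ha (e ▸ IsSquare.zero)
  obtain ⟨k, hk⟩ := hz (Units.mk0 a h0)
  have : a = (z : F) ^ k := by
    rw [← Units.val_zpow_eq_zpow_val]; exact (congrArg Units.val hk).symm
  exact ha (this ▸ IsSquare.zpow k ⟨b, hb⟩)

theorem KN.le_dA (h : KN X) (hL : Inn PSL(2, F) ≤ X) (h4 : 4 < Fintype.card F) :
    X ≤ (dA : GL (Fin 2) F →* _).range := by
  obtain ⟨ρ, h1, h3⟩ := PG.exists_decomp' (F := F)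
  intro a₀ ha₀
  by_contra hn
  have : Finite (F ≃+* F) := finite_ringAut
  have h0 : ρ a₀ ≠ 1 := fun e => by
    obtain ⟨k, hk⟩ := h3 a₀
    exact hn ⟨k, by rw [hk, e, map_one, mul_one]⟩
  obtain ⟨r, hr, hr'⟩ := Nat.exists_prime_and_dvd (mt orderOf_eq_one_iff.1 h0)
  obtain ⟨a, ha, ho⟩ : ∃ a ∈ X, orderOf (ρ a) = r := ⟨a₀ ^ (orderOf (ρ a₀) / r), pow_mem ha₀ _, by
    rw [map_pow, orderOf_pow_orderOf_div (orderOf_pos _).ne' hr']⟩
  obtain ⟨k, hk⟩ := h3 a
  set σ := ρ a with hσ
  by_cases hs : IsSquare k.1.det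
  · exact h.not_fA hL h4 (ho ▸ hr) ((mul_mem_cancel_left (hL (PG.dA_mem_inn.2 hs))).1 (hk ▸ ha))
  rcases hr.eq_two_or_odd' with rfl | h2
  swap
  · refine h.not_fA hL h4 (τ := σ * σ) ?_ ?_
    · rwa [← sq, (Nat.coprime_two_right.2 (ho ▸ h2)).orderOf_pow, ho]
    have e : a * a = dA (k * Matrix.GeneralLinearGroup.map σ.toRingHom k) * fA (Fin 2) (σ * σ) := by
      rw [hk, map_mul, map_mul, mul_assoc, ← mul_assoc (fA _ σ), fA_mul_dA]
      simp only [mul_assoc]
    refine (mul_mem_cancel_left (hL (PG.dA_mem_inn.2 ?_))).1 (e ▸ mul_mem ha ha)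
    rw [Units.val_mul, Matrix.det_mul]
    convert PG.sq_mul_map σ k.1.det
    exact (σ.toRingHom.map_det k.1).symm
  have hc : ringChar F ≠ 2 := fun e => hs (FiniteField.isSquare_of_char_two e _)
  have h2 : (2 : F) ≠ 0 := Ring.two_ne_zero hc
  obtain ⟨z, hz⟩ := IsCyclic.exists_generator (α := Fˣ)
  have hz0 := z.ne_zero
  have hσ2 : σ * σ = 1 := by rw [← sq, ← ho, pow_orderOf_eq_one]
  have hσσ : ∀ x, σ (σ x) = x := fun x => congrArg (fun f : F ≃+* F => f x) hσ2
  have hall : ∀ p : F → Prop, p z → p (z : F)⁻¹ → (∀ x y, p x → p y → p (x * y)) →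
      ∀ x, x ≠ 0 → p x := fun p p1 p2 p3 x hx => by
    have := hz (Units.mk0 x hx)
    rw [← mem_powers_iff_mem_zpowers] at this
    obtain ⟨n, hn⟩ := this
    have h5 : ∀ n, p ((z : F) ^ n) := fun n => by
      induction n with
      | zero => simpa [hz0] using p3 _ _ p1 p2
      | succ n ih => exact pow_succ (z : F) n ▸ p3 _ _ ih p1
    have h6 : x = (z : F) ^ n := by
      rw [← Units.val_pow_eq_pow_val]; exact (congrArg Units.val hn).symm
    exact h6 ▸ h5 n
  let α := dA (gm (z : F) 0 0 1 (by simp)) * fA (Fin 2) σ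
  have hα : α ∈ X := by
    have e : α = dA (gm (z : F) 0 0 1 (by simp) * k) * (dA (k * k))⁻¹ * a := by
      rw [hk]; simp only [α, map_mul]; group
    rw [e]
    refine mul_mem (hL (mul_mem (PG.dA_mem_inn.2 ?_) (inv_mem (PG.dA_mem_inn.2 ?_)))) ha
    · rw [Units.val_mul, Matrix.det_mul]
      exact PG.sq_mul (by simpa [det_fin_two] using not_sq_gen hc hz) hs
    · rw [Units.val_mul, Matrix.det_mul]
      exact IsSquare.mul_self _
  have hρ : ρ α = σ := by
    conv_rhs => rw [hσ, hk]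
    simp only [α, map_mul, h1]
  have hαα : α * α = dA (gm (z * σ z) 0 0 1 (by simp)) := by
    simp only [α]
    rw [mul_assoc, ← mul_assoc (fA _ σ), fA_gm, mul_assoc, ← map_mul (fA _), hσ2, map_one (fA _),
      mul_one (dA _), ← map_mul dA]
    congr 1
    ext i j
    fin_cases i <;> fin_cases j <;> simp
  have hy : α * α ≠ 1 := fun e => by
    rw [hαα, PG.dA_one] at e
    obtain ⟨c, e⟩ := e
    have e1 := congrFun (congrFun e 0) 0
    have e2 := congrFun (congrFun e 1) 1
    simp at e1 e2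
    rw [← e2] at e1
    have h5 := hall (fun x => x * σ x = 1) e1 (by rw [map_inv₀, ← mul_inv, e1, inv_one])
      fun x y hx hy => by rw [map_mul, mul_mul_mul_comm, hx, hy, one_mul]
    have h6 : ∀ x : F, x ^ 3 = x := fun x => by
      by_cases e : x = 0
      · simp [e]
      by_cases e' : x + 1 = 0
      · linear_combination (x ^ 2 - x) * e'
      have h7 := h5 x e
      have h8 := h5 _ e'
      have h9 := h5 2 h2
      rw [map_add, map_one] at h8
      rw [map_ofNat] at h9
      have h10 : (x - 1) ^ 2 = 0 := by linear_combination x * h8 - (x + 1) * h7 - x * h9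
      simp [sub_eq_zero.1 (pow_eq_zero_iff two_ne_zero |>.1 h10)]
    classical
    have h7 := Polynomial.card_le_degree_of_subset_roots (Z := Finset.univ)
      (p := (Polynomial.X ^ 3 - Polynomial.X : Polynomial F)) fun a _ => by
        rw [Polynomial.mem_roots (FiniteField.X_pow_card_sub_X_ne_zero F (by norm_num))]
        simp [h6]
    rw [FiniteField.X_pow_card_sub_X_natDegree_eq F (by norm_num), Finset.card_univ] at h7
    omega
  have hw : dA (gm (0 : F) 1 (-1) 0 (by simp)) ∈ X := hL (gm_inn _ (by simp))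
  have h5 := comm_of_zpowers (h α hα _ hw (α * α) (mul_mem (mem_zpowers _) (mem_zpowers _))
    (even_iff_two_dvd.2 (by have := orderOf_map_dvd ρ α; rwa [hρ, ho] at this)) hy (by
      refine inv_mem_iff.1 ?_
      convert mem_zpowers (α * α) using 1
      rw [hαα, inv_eq_iff_mul_eq_one, ← map_inv, ← map_mul, ← map_mul, ← map_mul, PG.dA_one]
      refine ⟨z * σ z, ?_⟩
      ext i j
      fin_cases i <;> fin_cases j <;>
        simp [Matrix.inv_def, Matrix.det_fin_two, Matrix.adjugate_fin_two]))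
  have e : dA (gm (0 : F) 1 (-1) 0 (by simp)) * α * (dA (gm (0 : F) 1 (-1) 0 (by simp)))⁻¹ =
      dA (gm 1 0 0 (z : F) (by simp)) * fA (Fin 2) σ := by
    rw [mul_inv_eq_iff_eq_mul, mul_assoc, fA_gm]
    simp only [α, ← mul_assoc, ← map_mul]
    congr 2
    ext i j
    fin_cases i <;> fin_cases j <;> simp
  rw [e] at h5
  simp only [α] at h5
  rw [mul_assoc, mul_assoc, ← mul_assoc (fA _ σ), ← mul_assoc (fA _ σ), fA_gm, fA_gm] at h5
  simp only [← mul_assoc, mul_left_inj] at h5
  obtain ⟨c, h6⟩ := dA_mul_eq h5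
  have e1 := h6 0 0
  have e2 := h6 1 1
  simp at e1 e2
  have h7 := hall (fun x => σ (x * x) = x * x)
    (by rw [map_mul]; linear_combination σ z * e1 - z * e2)
    (by
      have : σ z * σ z = z * z := by linear_combination σ z * e1 - z * e2
      rw [map_mul, map_inv₀, ← mul_inv, this, mul_inv])
    fun x y hx hy => by rw [mul_mul_mul_comm, map_mul, hx, hy]
  have h8 : ∀ x, σ (x * x) = x * x := fun x => by
    by_cases e : x = 0
    · simp [e]
    · exact h7 x e
  refine absurd ho (by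
    rw [show σ = 1 from RingEquiv.ext fun x => mul_left_cancel₀ h2 ?_, orderOf_one]
    · decide
    have h9 := h8 x
    have h10 := h8 (x + 1)
    simp only [map_mul, map_add, map_one] at h9 h10
    change 2 * σ x = 2 * x
    linear_combination h10 - h9)

end aut

theorem exists_embed {N : Subgroup G} [N.Normal] (hC : centralizer (N : Set G) = ⊥) (e : N ≃* H) :
    ∃ φ : G →* MulAut H, Function.Injective φ ∧ Inn H ≤ φ.range ∧
      ∀ n : N, φ n = MulAut.conj (e n) := by
  have k : ∀ n : N, (MulAut.congr e).toMonoidHom.comp MulAut.conjNormal n = MulAut.conj (e n) :=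
    fun n => MulEquiv.ext fun x => by
      obtain ⟨x, rfl⟩ := e.surjective x
      simp only [MonoidHom.comp_apply, MulEquiv.coe_toMonoidHom, MulAut.congr_apply,
        MulEquiv.trans_apply, MulEquiv.symm_apply_apply, MulAut.conj_apply, ← map_inv, ← map_mul]
      rfl
  refine ⟨(MulAut.congr e).toMonoidHom.comp MulAut.conjNormal, (injective_iff_map_eq_one _).2
    fun g hg => ?_, ?_, k⟩
  · rw [← mem_bot, ← hC]
    intro n hn
    have h1 : MulAut.conjNormal (H := N) g = 1 := (map_eq_one_iff _ (MulAut.congr e).injective).1 hg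
    have h2 : g * n * g⁻¹ = n := congrArg (fun f : MulAut N => (f ⟨n, hn⟩ : G)) h1
    rw [mul_inv_eq_iff_eq_mul] at h2
    exact h2.symm
  · rintro _ ⟨x, rfl⟩
    obtain ⟨x, rfl⟩ := e.surjective x
    exact ⟨x, k x⟩

theorem cent_bot [Finite G] (h0 : ∀ N : Subgroup G, N.Normal → Group.IsSolvable N → N = ⊥)
    (hs : ∀ t : G, orderOf t = 2 → Group.IsSolvable (centralizer ({t} : Set G))) {N : Subgroup G}
    [N.Normal] (hN : ¬ Group.IsSolvable N) : centralizer (N : Set G) = ⊥ := by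
  refine h0 _ inferInstance (by_contra fun h => hN ?_)
  obtain ⟨t, ht⟩ := exists_two_of_ns h
  haveI := hs t (by rwa [orderOf_coe])
  have : N ≤ centralizer ({(t : G)} : Set G) := fun n hn =>
    mem_centralizer_singleton_iff.2 (t.2 n hn)
  exact solvable_of_solvable_injective (inclusion_injective this)

theorem exists_simple [Finite G] [Nontrivial G]
    (h0 : ∀ N : Subgroup G, N.Normal → Group.IsSolvable N → N = ⊥)
    (hs : ∀ t : G, orderOf t = 2 → Group.IsSolvable (centralizer ({t} : Set G))) :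
    ∃ (N : Subgroup G) (_ : N.Normal), IsSimpleGroup N ∧ ¬ IsMulCommutative N ∧
      centralizer (N : Set G) = ⊥ := by
  obtain ⟨N, _, h1, h2 | ⟨t, ht, K, hK, h2, -⟩⟩ := exists_min h0
  · exact ⟨N, inferInstance, h2, fun h => h1 (isSolvable_of_comm h.1.1), cent_bot h0 hs h1⟩
  · haveI := hs t ht
    exact absurd (solvable_of_solvable_injective (inclusion_injective hK)) h2

theorem KN.known [Finite G] [Nontrivial G] (h : KN (⊤ : Subgroup G))
    (h0 : ∀ N : Subgroup G, N.Normal → Group.IsSolvable N → N = ⊥) :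
    ∃ (F : Type) (_ : Field F) (_ : Fintype F), 3 < Fintype.card F ∧
      (Nonempty (G ≃* PSL(2, F)) ∨ Nonempty (G ≃* ProjGenLinGroup (Fin 2) F)) := by
  obtain ⟨N, _, _, h1, hC⟩ := exists_simple h0 h.npc.solv
  have hN : KN (⊤ : Subgroup N) := h.top N.subtype_injective
  obtain ⟨F, _, _, hF, ⟨e⟩⟩ : ∃ (F : Type) (_ : Field F) (_ : Fintype F), 4 < Fintype.card F ∧
      Nonempty (N ≃* PSL(2, F)) := by
    rcases S3214.result h1 hN.npc with ⟨F, _, _, h2, e⟩ | h2 | ⟨⟨e⟩⟩ | h2
    · by_cases h4 : Fintype.card F = 4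
      · obtain ⟨K, _, _, h5, f⟩ := L2.five_of_four ⟨F, _, _, h4, e⟩
        exact ⟨K, inferInstance, inferInstance, by omega, f⟩
      · exact ⟨F, inferInstance, inferInstance, by omega, e⟩
    · exact absurd hN (not_kn_sz h2)
    · exact absurd (hN.top (f := e.symm.toMonoidHom) e.symm.injective) not_kn_A7
    · exact absurd hN (not_kn_l34 h2)
  obtain ⟨φ, hφ, hL, -⟩ := exists_embed hC e
  have e1 := MonoidHom.ofInjective hφ
  refine ⟨F, inferInstance, inferInstance, by omega, ?_⟩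
  rcases Part.eq_inn_or hL (KN.le_dA (φ.range_eq_map ▸ h.map hφ) hL hF) with h2 | h2
  · rw [h2] at e1
    exact Or.inl ⟨e1.trans (MonoidHom.ofInjective Part.conj_injective).symm⟩
  · rw [h2] at e1
    exact Or.inr ⟨e1.trans pglEquiv.symm⟩

end Cfsg.Agent.CIT.F
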