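import Mathlib
import Cfsg.Agent.CIT.F13
import Cfsg.Agent.FGS.SylowNum3
import Cfsg.Agent.Perm.Zass10

/-! Centreless groups with Sylow numbers `18, 136, 153`. -/

set_option autoImplicit false

namespace Cfsg.Agent.CIT.F

open Subgroup Cfsg.Agent.Classical.AutPSL Cfsg.Agent.Classical.AutPSL2
open scoped MatrixGroups

variable {G : Type*} [Group G] [Finite G]

theorem card_sylow_le {H : Type*} [Group H] (p : ℕ) [Fact p.Prime] (f : H →* G)
    (hf : Function.Injective f) : Nat.card (Sylow p H) ≤ Nat.card (Sylow p G) := by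
  haveI : Finite H := Finite.of_injective f hf
  choose Q hQ using fun P : Sylow p H => P.exists_comap_eq_of_injective hf
  exact Nat.card_le_card_of_injective Q fun a b h => Sylow.ext (by rw [← hQ a, ← hQ b, h])

theorem bot_of_norm_all (hZ : center G = ⊥) {K : Subgroup G} [hK : K.Normal]
    (h : ∀ (r : ℕ) [Fact r.Prime] (R : Sylow r G), K ≤ normalizer ((R : Subgroup G) : Set G)) :
    K = ⊥ := by
  by_contra h0
  obtain ⟨r, hr, h1⟩ := Nat.exists_prime_and_dvd (mt card_eq_one.1 h0)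
  haveI : Fact r.Prime := ⟨hr⟩
  obtain ⟨R⟩ : Nonempty (Sylow r G) := inferInstance
  have h2 : ∀ z ∈ K, orderOf z = r → z ∈ (R : Subgroup G) := fun z hz ho => by
    have h3 : IsPGroup r (zpowers z) :=
      IsPGroup.of_card (n := 1) (by rw [Nat.card_zpowers, ho, pow_one])
    exact ((IsPGroup.inf_normalizer_sylow h3 R).le ⟨mem_zpowers z, h r R hz⟩).2
  obtain ⟨z₀, hz₀⟩ := exists_prime_orderOf_dvd_card' r h1
  rw [← orderOf_coe] at hz₀
  obtain ⟨z, hz, hzc, ho⟩ := PGrp.exists_mem_center_orderOf_eq R.2 (K.subgroupOf R) fun e => by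
    have : (⟨z₀, h2 _ z₀.2 hz₀⟩ : (R : Subgroup G)) ∈ K.subgroupOf R := z₀.2
    rw [e, mem_bot] at this
    rw [show (z₀ : G) = 1 from congrArg Subtype.val this, orderOf_one] at hz₀
    exact hr.one_lt.ne hz₀
  rw [← orderOf_coe] at ho
  have h3 : centralizer ({(z : G)} : Set G) = ⊤ := Core.eq_top_of_forall_sylow_le _ fun s hs _ => by
    haveI : Fact s.Prime := ⟨hs⟩
    by_cases e : s = r
    · subst e
      exact ⟨R, fun y hy => mem_centralizer_singleton_iff.2
        (congrArg Subtype.val (mem_center_iff.1 hzc ⟨y, hy⟩))⟩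
    obtain ⟨S⟩ : Nonempty (Sylow s G) := inferInstance
    refine ⟨S, fun y hy => mem_centralizer_singleton_iff.2 ?_⟩
    have h4 : y * z * y⁻¹ * (z : G)⁻¹ ∈ (R : Subgroup G) := mul_mem (h2 _ (hK.conj_mem _ hz y)
      (((MulAut.conj y).orderOf_eq _).trans ho)) (inv_mem z.2)
    have h5 : y * z * y⁻¹ * (z : G)⁻¹ ∈ (S : Subgroup G) := by
      have := mul_mem hy ((mem_normalizer_iff.1 (h s S hz) _).1 (inv_mem hy))
      simp only [mul_assoc] at this ⊢
      exact this
    have h6 := (IsPGroup.disjoint_of_ne s r e _ _ S.2 R.2).le_bot ⟨h5, h4⟩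
    rwa [mem_bot, mul_inv_eq_one, mul_inv_eq_iff_eq_mul] at h6
  have h4 : (z : G) ∈ center G := mem_center_iff.2 fun g =>
    mem_centralizer_singleton_iff.1 (h3.ge (mem_top g))
  rw [hZ, mem_bot] at h4
  rw [h4, orderOf_one] at ho
  exact hr.one_lt.ne ho

theorem card_range17 [Fact (Nat.Prime 17)] (h : Nat.card (Sylow 17 G) = 18) :
    ∃ d < 17, Nat.card (MulAction.toPermHom G (Sylow 17 G)).range = (17 + 1) * 17 * d := by
  classical
  haveI := Fintype.ofFinite (Sylow 17 G)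
  have hc : Fintype.card (Sylow 17 G) = 18 := by rw [← Nat.card_eq_fintype_card, h]
  set φ := MulAction.toPermHom G (Sylow 17 G)
  obtain ⟨P⟩ : Nonempty (Sylow 17 G) := inferInstance
  have h1 : Nat.card ((P : Subgroup G).map φ) ∣ 17 ^ 1 :=
    FGS.card_dvd_pow_of_not_dvd (P.2.map φ) (by
      rw [Nat.card_eq_fintype_card, Fintype.card_perm, hc]; decide +kernel)
  have h2 : Nat.card ((P : Subgroup G).map φ) = 17 := by
    refine ((Nat.dvd_prime Fact.out).1 h1).resolve_left fun e => ?_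
    rw [card_eq_one, Subgroup.map_eq_bot_iff] at e
    have : Subsingleton (Sylow 17 G) := ⟨fun a b => by
      have k : ∀ Q : Sylow 17 G, Q = P := fun Q => FGS.eq_of_forall_smul_sylow fun g hg =>
        congrArg (fun f : Equiv.Perm (Sylow 17 G) => f Q) (e hg)
      rw [k a, k b]⟩
    have := Fintype.card_le_one_iff_subsingleton.2 this
    omega
  obtain ⟨c, hc'⟩ := exists_prime_orderOf_dvd_card' (G := (P : Subgroup G).map φ) 17 (by rw [h2])
  rw [← orderOf_coe] at hc'
  have h3 : zpowers (c : Equiv.Perm (Sylow 17 G)) = (P : Subgroup G).map φ :=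
    eq_of_le_of_card_ge (zpowers_le.2 c.2) (by rw [h2, Nat.card_zpowers, hc'])
  have h4 := Equiv.Perm.isCycle_of_prime_order' (σ := (c : Equiv.Perm (Sylow 17 G)))
    (by rw [hc']; decide) (by rw [hc, hc']; decide)
  have h5 : Nat.card (centralizer (((P : Subgroup G).map φ : Subgroup _) :
      Set (Equiv.Perm (Sylow 17 G)))) = 17 := by
    rw [← h3, zpowers_eq_closure, centralizer_closure, Equiv.Perm.nat_card_centralizer,
      h4.cycleType, ← h4.orderOf, hc', hc]
    simp
  have h6 := FGS.relIndex_centralizer_normalizer_dvd ((P : Subgroup G).map φ)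
  rw [FGS.card_mulAut_of_prime (by rw [h2]; decide), h2] at h6
  have h7 : Nat.card (normalizer (((P : Subgroup G).map φ : Subgroup _) :
      Set (Equiv.Perm (Sylow 17 G)))) ∣ 17 * (17 - 1) := by
    rw [← ((centralizer (((P : Subgroup G).map φ : Subgroup _) : Set _)).subgroupOf _).card_mul_index,
      Nat.card_congr (subgroupOfEquivOfLe (centralizer_le_normalizer _)).toEquiv, h5]
    exact Nat.mul_dvd_mul_left _ h6
  haveI : MulAction.IsPretransitive φ.range (Sylow 17 G) := ⟨fun a b => by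
    obtain ⟨g, hg⟩ := MulAction.exists_smul_eq G a b
    exact ⟨⟨φ g, g, rfl⟩, hg⟩⟩
  let S := MulAction.stabilizer φ.range P
  have h8 : Nat.card S ∣ 17 * (17 - 1) := by
    refine Dvd.dvd.trans ?_ h7
    rw [← card_map_of_injective φ.range.subtype_injective]
    refine card_dvd_of_le ?_
    rintro _ ⟨⟨_, g, rfl⟩, hg, rfl⟩
    exact le_normalizer_map φ ⟨g, Sylow.smul_eq_iff_mem_normalizer.1 hg, rfl⟩
  have h9 : 17 ∣ Nat.card S := by
    obtain ⟨x, hx, e⟩ := c.2
    have := S.orderOf_dvd_natCard (x := φ.rangeRestrict x) (FGS.smul_sylow_of_mem hx)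
    rwa [← orderOf_coe, MonoidHom.coe_rangeRestrict, e, hc'] at this
  obtain ⟨d, hd⟩ := h9
  rw [hd] at h8
  refine ⟨d, lt_of_le_of_lt (Nat.le_of_dvd (by decide) (Nat.dvd_of_mul_dvd_mul_left (by decide) h8))
    (by decide), ?_⟩
  rw [← S.index_mul_card, MulAction.index_stabilizer_of_transitive, h, hd, mul_assoc]

theorem not_ord17 (h : L2 17 G) {k : ℕ} (h1 : ¬ k ∣ 17) (h2 : ¬ k ∣ 8) (h3 : ¬ k ∣ 9) (g : G) :
    orderOf g ≠ k := by
  obtain ⟨F, _, _, hF, ⟨e⟩⟩ := h
  rintro rfl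
  have := order_odd (c := 8) (by decide) hF (e g)
  rw [e.orderOf_eq, ringChar_of_card (p := 17) (k := 1) (by decide) hF] at this
  tauto

theorem sylow_two17 (h : L2 17 G) : 153 ≤ Nat.card (Sylow 2 G) := by
  classical
  obtain ⟨x, hx⟩ := L2.ord_odd (c := 8) (k := 8) h (by decide) (by decide)
  obtain ⟨T, hT⟩ := (IsPGroup.of_card (p := 2) (n := 3)
    (by rw [Nat.card_zpowers, hx]; rfl) : IsPGroup 2 (zpowers x)).exists_le_sylow
  have h1 : I2 (zpowers x) T := i2_of_dvd hT (by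
    rw [Nat.card_zpowers, hx]
    exact FGS.card_dvd_pow_of_not_dvd T.2 (n := 4) (by rw [h.card17]; decide))
  have h2 : orderOf (x ^ 4) = 2 := by rw [orderOf_pow, hx]; decide
  have h3 := card_cent_dvd (o := 16) (m := 153) h2 h.card17 (by decide) fun s hs h4 => by
    have : s = 3 ∨ s = 17 := by
      rcases (Nat.Prime.dvd_mul hs).1 (show s ∣ 3 ^ 2 * 17 from h4) with e | e
      · exact Or.inl ((Nat.prime_dvd_prime_iff_eq hs Nat.prime_three).1 (hs.dvd_of_dvd_pow e))
      · exact Or.inr ((Nat.prime_dvd_prime_iff_eq hs (by decide)).1 e)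
    rcases this with rfl | rfl <;> exact not_ord17 h (by decide) (by decide) (by decide)
  have h4 : normalizer ((T : Subgroup G) : Set G) ≤ centralizer ({x ^ 4} : Set G) := fun y hy => by
    have h5 := h1.sq ((mem_normalizer_iff.1 hy x).1 (hT (mem_zpowers x)))
    rw [← mem_powers_iff_mem_zpowers, mem_powers_iff_mem_range_orderOf, hx] at h5
    obtain ⟨k, hk, h5⟩ := Finset.mem_image.1 h5
    have h6 : x ^ (2 * k) = y * x ^ 4 * y⁻¹ := by
      rw [mul_comm, pow_mul, h5, ← sq, ← pow_mul, conj_pow]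
    have h7 : orderOf (x ^ (2 * k)) = 2 := by
      rw [h6]; exact ((MulAut.conj y).orderOf_eq _).trans h2
    rw [orderOf_pow, hx] at h7
    rw [mem_centralizer_singleton_iff, ← mul_inv_eq_iff_eq_mul, ← h6, pow_inj_mod, hx]
    rw [Finset.mem_range] at hk
    clear h5 h6
    interval_cases k <;> first | rfl | exact absurd h7 (by decide)
  have h5 := (normalizer ((T : Subgroup G) : Set G)).index_mul_card
  have h6 := Nat.le_of_dvd (by decide) ((card_dvd_of_le h4).trans h3)
  rw [h.card17] at h5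
  rw [FGS.card_sylow_eq T]
  nlinarith

theorem sylow_three17 (h : L2 17 G) : 136 ≤ Nat.card (Sylow 3 G) := by
  haveI : Fact (Nat.Prime 3) := ⟨Nat.prime_three⟩
  obtain ⟨x, hx⟩ := L2.ord_odd (c := 8) (k := 9) h (by decide) (by decide)
  obtain ⟨T, hT⟩ := (IsPGroup.of_card (p := 3) (n := 2)
    (by rw [Nat.card_zpowers, hx]; rfl) : IsPGroup 3 (zpowers x)).exists_le_sylow
  have h1 : zpowers x = T := eq_of_le_of_card_ge hT (by
    rw [Nat.card_zpowers, hx]
    exact Nat.le_of_dvd (by decide)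
      (FGS.card_dvd_pow_of_not_dvd T.2 (n := 2) (by rw [h.card17]; decide)))
  have h2 : orderOf (x ^ 3) = 3 := by rw [orderOf_pow, hx]; decide
  have h3 := card_cent_dvd (o := 9) (m := 272) h2 h.card17 (by decide) fun s hs h4 => by
    have : s = 2 ∨ s = 17 := by
      rcases (Nat.Prime.dvd_mul hs).1 (show s ∣ 2 ^ 4 * 17 from h4) with e | e
      · exact Or.inl ((Nat.prime_dvd_prime_iff_eq hs Nat.prime_two).1 (hs.dvd_of_dvd_pow e))
      · exact Or.inr ((Nat.prime_dvd_prime_iff_eq hs (by decide)).1 e)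
    rcases this with rfl | rfl <;> exact not_ord17 h (by decide) (by decide) (by decide)
  have h4 : normalizer ((T : Subgroup G) : Set G) ≤ normalizer (zpowers (x ^ 3) : Set G) :=
    fun y hy => mem_normalizer_fintype fun n hn => by
      obtain ⟨k, rfl⟩ := hn
      obtain ⟨j, hj⟩ := h1.ge ((mem_normalizer_iff.1 hy x).1 (hT (mem_zpowers x)))
      rw [← conj_zpow, ← conj_pow, ← hj]
      refine Subgroup.zpow_mem _ (mem_zpowers_iff.2 ⟨j, ?_⟩) k
      simp only [← zpow_natCast, ← zpow_mul, mul_comm]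
  have h6 := FGS.relIndex_centralizer_normalizer_dvd (zpowers (x ^ 3))
  rw [FGS.card_mulAut_of_prime (by rw [Nat.card_zpowers, h2]; exact Nat.prime_three),
    Nat.card_zpowers, h2] at h6
  have h7 : Nat.card (normalizer (zpowers (x ^ 3) : Set G)) ∣ 9 * (3 - 1) := by
    rw [← ((centralizer (zpowers (x ^ 3) : Set G)).subgroupOf _).card_mul_index,
      Nat.card_congr (subgroupOfEquivOfLe (centralizer_le_normalizer _)).toEquiv]
    refine Nat.mul_dvd_mul ?_ h6
    rwa [zpowers_eq_closure, centralizer_closure]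
  have h5 := (normalizer ((T : Subgroup G) : Set G)).index_mul_card
  have h8 := Nat.le_of_dvd (by decide) ((card_dvd_of_le h4).trans h7)
  rw [h.card17] at h5
  rw [FGS.card_sylow_eq T]
  nlinarith

theorem not_dvd_of {K : Type*} [Group K] [Finite K] [Fact (Nat.Prime 17)] {P : Sylow 17 K}
    [(P : Subgroup K).Normal] {r a : ℕ} [hr : Fact r.Prime] (h : Nat.card (Sylow r K) = a * 17)
    (ha : ¬ 17 ∣ a) (ha' : ∀ b, b ∣ a → b ≡ 1 [MOD r] → b = 1) (h1 : a ≠ 1) : False := by
  obtain ⟨R⟩ : Nonempty (Sylow r K) := inferInstance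
  have h2 := FGS.card_sylow_eq_quotient_mul R (P : Subgroup K)
  obtain ⟨k, hk⟩ := FGS.relIndex_sylow_eq_pow P (normalizer ((R : Subgroup K) : Set K))
  obtain ⟨Q⟩ : Nonempty (Sylow r (K ⧸ (P : Subgroup K))) := inferInstance
  have h3 : (Nat.card (Sylow r (K ⧸ (P : Subgroup K)))).Coprime 17 :=
    ((Nat.Prime.coprime_iff_not_dvd Fact.out).2 fun e =>
      P.not_dvd_index (e.trans (Q.card_dvd_index.trans (index_dvd_card _)))).symm
  rw [h, hk] at h2
  rw [ha' _ (h3.dvd_of_dvd_mul_right (Dvd.intro _ h2.symm)) (card_sylow_modEq_one r _),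
    one_mul] at h2
  rcases (Nat.dvd_prime_pow Fact.out).1 (Dvd.intro _ h2) with ⟨_ | j, -, rfl⟩
  · exact h1 rfl
  · exact ha (dvd_pow_self _ (by omega))

theorem sylow17 (hZ : center G = ⊥) (hNS : {c : ℕ | ∃ r : ℕ, r.Prime ∧ r ∣ Nat.card G ∧
      c = Nat.card (Sylow r G)} = ({18, 136, 153} : Set ℕ)) [Fact (Nat.Prime 17)] :
    Nonempty (G ≃* PSL(2, ZMod 17)) ∨ Nonempty (G ≃* PGL(2, ZMod 17)) := by
  haveI : Fact (Nat.Prime 3) := ⟨Nat.prime_three⟩
  have h1 : ∀ (r : ℕ) [Fact r.Prime], r ∣ Nat.card G → Nat.card (Sylow r G) = 18 ∧ r ∣ 17 ∨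
      Nat.card (Sylow r G) = 136 ∧ r ∣ 135 ∨ Nat.card (Sylow r G) = 153 ∧ r ∣ 152 := fun r hr h => by
    have h2 := (Nat.modEq_iff_dvd' Nat.card_pos).1 (card_sylow_modEq_one r G).symm
    rcases hNS.le ⟨r, hr.out, h, rfl⟩ with e | e | e <;> rw [e] at h2 ⊢ <;> simp [h2]
  have h2 : 18 ∣ Nat.card G ∧ 136 ∣ Nat.card G := by
    have k : ∀ c ∈ ({18, 136, 153} : Set ℕ), c ∣ Nat.card G := fun c hc => by
      obtain ⟨r, hr, -, rfl⟩ := hNS.ge hc
      haveI : Fact r.Prime := ⟨hr⟩
      obtain ⟨R⟩ : Nonempty (Sylow r G) := inferInstance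
      exact R.card_dvd_index.trans (index_dvd_card _)
    exact ⟨k _ (by simp), k _ (by simp)⟩
  have n17 : Nat.card (Sylow 17 G) = 18 := by
    have := h1 17 (Dvd.dvd.trans (by decide) h2.2)
    omega
  have n2 : Nat.card (Sylow 2 G) = 153 := by
    have := h1 2 (Dvd.dvd.trans (by decide) h2.2)
    omega
  have n3 : Nat.card (Sylow 3 G) = 136 := by
    have := h1 3 (Dvd.dvd.trans (by decide) h2.1)
    omega
  obtain ⟨d, hd, h3⟩ := card_range17 n17
  set φ := MulAction.toPermHom G (Sylow 17 G)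
  haveI : MulAction.IsPretransitive φ.range (Sylow 17 G) := ⟨fun a b => by
    obtain ⟨g, hg⟩ := MulAction.exists_smul_eq G a b
    exact ⟨⟨φ g, g, rfl⟩, hg⟩⟩
  have e0 := QuotientGroup.quotientKerEquivRange φ
  have h4 : (d = 16 ∧ Nonempty (φ.range ≃* PGL(2, ZMod 17))) ∨
      (d = 8 ∧ Nonempty (φ.range ≃* PSL(2, ZMod 17))) := by
    rcases Perm.classify_succ_prime (p := 17) n17 h3 hd with h | h | ⟨q, -, h, -⟩
    · exact Or.inl h
    · exact Or.inr ⟨by omega, h.2⟩
    · have : q < 5 := (Nat.pow_lt_pow_iff_right (a := 2) (by decide)).1 (by omega)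
      interval_cases q <;> omega
  obtain ⟨f, hf⟩ : ∃ f : PSL(2, ZMod 17) →* G ⧸ φ.ker, Function.Injective f := by
    rcases h4 with ⟨-, ⟨e⟩⟩ | ⟨-, ⟨e⟩⟩
    · exact ⟨((pglEquiv.symm.trans (e0.trans e).symm).toMonoidHom.comp (inclusion inn_le)).comp
        (MonoidHom.ofInjective Part.conj_injective).toMonoidHom,
        ((pglEquiv.symm.trans (e0.trans e).symm).injective.comp (inclusion_injective inn_le)).comp
          (MonoidHom.ofInjective Part.conj_injective).injective⟩
    · exact ⟨(e0.trans e).symm.toMonoidHom, MulEquiv.injective _⟩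
  have hL : L2 17 PSL(2, ZMod 17) := ⟨ZMod 17, inferInstance, inferInstance, ZMod.card 17, ⟨.refl _⟩⟩
  have h5 : φ.ker.index ∣ 2 ^ 5 * 3 ^ 2 * 17 := by
    rw [index_ker, h3]
    rcases h4 with ⟨rfl, -⟩ | ⟨rfl, -⟩ <;> decide
  have h17 : ∀ P : Sylow 17 G, φ.ker ≤ normalizer ((P : Subgroup G) : Set G) := fun P g hg =>
    Sylow.smul_eq_iff_mem_normalizer.1 (congrArg (fun f : Equiv.Perm (Sylow 17 G) => f P) hg)
  have h6 : ∀ (r : ℕ) [Fact r.Prime] (R : Sylow r G),
      Nat.card (Sylow r G) ≤ Nat.card (Sylow r PSL(2, ZMod 17)) →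
      φ.ker ≤ normalizer ((R : Subgroup G) : Set G) := fun r _ R h => by
    have h7 := FGS.card_sylow_eq_quotient_mul R φ.ker
    have h8 := h.trans (card_sylow_le r f hf)
    have h9 : 0 < Nat.card (Sylow r G) := Nat.card_pos
    rw [← relIndex_eq_one]
    rw [h7] at h8 h9
    have := Nat.pos_of_mul_pos_left h9
    have := Nat.pos_of_mul_pos_right h9
    nlinarith
  obtain ⟨P, hP⟩ : ∃ P : Sylow 17 φ.ker, (P : Subgroup φ.ker).Normal := by
    obtain ⟨P⟩ : Nonempty (Sylow 17 φ.ker) := inferInstance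
    obtain ⟨Q, hQ⟩ := P.exists_comap_subtype_eq
    refine ⟨P, hQ ▸ ⟨fun n hn g => ?_⟩⟩
    exact (mem_normalizer_iff.1 (h17 Q g.2) _).1 hn
  have h0 : φ.ker = ⊥ := bot_of_norm_all hZ fun r hr R => by
    by_cases h : r ∣ Nat.card G
    swap
    · rw [card_eq_one.1 (Nat.dvd_one.1 (FGS.card_dvd_pow_of_not_dvd R.2 (n := 0) (by simpa)))]
      exact le_normalizer_of_normal
    have h7 : ∀ p : ℕ, p.Prime → r ∣ p → r = p := fun p hp =>
      (Nat.prime_dvd_prime_iff_eq hr.out hp).1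
    rcases h1 r h with ⟨-, e⟩ | ⟨e', e⟩ | ⟨e', e⟩
    · obtain rfl := h7 17 (by decide) e
      exact h17 R
    · rcases (Nat.Prime.dvd_mul hr.out).1 (show r ∣ 3 ^ 3 * 5 from e) with e | e
      · obtain rfl := h7 3 (by decide) (hr.out.dvd_of_dvd_pow e)
        exact h6 3 R (n3 ▸ sylow_three17 hL)
      · obtain rfl := h7 5 (by decide) e
        rw [← FGS.card_sylow_normal_of_not_dvd_index φ.ker fun e => absurd (e.trans h5) (by decide)]
          at e'
        exact (not_dvd_of (P := P) (a := 8) e' (by decide) (fun b hb => by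
          have := Nat.le_of_dvd (by decide) hb
          interval_cases b <;> revert hb <;> decide) (by decide)).elim
    · rcases (Nat.Prime.dvd_mul hr.out).1 (show r ∣ 2 ^ 3 * 19 from e) with e | e
      · obtain rfl := h7 2 (by decide) (hr.out.dvd_of_dvd_pow e)
        exact h6 2 R (n2 ▸ sylow_two17 hL)
      · obtain rfl := h7 19 (by decide) e
        rw [← FGS.card_sylow_normal_of_not_dvd_index φ.ker fun e => absurd (e.trans h5) (by decide)]
          at e'
        exact (not_dvd_of (P := P) (a := 9) e' (by decide) (fun b hb => by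
          have := Nat.le_of_dvd (by decide) hb
          interval_cases b <;> revert hb <;> decide) (by decide)).elim
  have e1 := MonoidHom.ofInjective ((MonoidHom.ker_eq_bot_iff φ).1 h0)
  rcases h4 with ⟨-, ⟨e⟩⟩ | ⟨-, ⟨e⟩⟩
  · exact Or.inr ⟨e1.trans e⟩
  · exact Or.inl ⟨e1.trans e⟩

end Cfsg.Agent.CIT.F
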