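import Mathlib
import Cfsg.Agent.CIT.F13
import Cfsg.Agent.Lyons.Loc

/-! The norm map of a Frobenius complement; groups in which no prime divides three element
orders. -/

set_option autoImplicit false

namespace Cfsg.Agent.CIT.F

open Subgroup Finset Cfsg.Agent.GW Cfsg.Agent.Classical.AutPSL Cfsg.Agent.Classical.AutPSL2
open scoped MatrixGroups

universe u

theorem ring_frob {A R : Type*} [Group A] [Ring R] (ψ : A →* R) (E : Subgroup A) [Finite E] {y : A}
    {n : ℕ} (hy : y ∈ normalizer (E : Set A))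
    (hf : ∀ i, 0 < i → i < n + 1 → ∀ e ∈ E, e * y ^ i = y ^ i * e → e = 1)
    (h0 : ∑ i ∈ range (n + 1), ψ (y ^ i) = 0) {e : A} (he : e ∈ E) :
    ψ e * (Nat.card E : R) = Nat.card E := by
  classical
  haveI := Fintype.ofFinite E
  have h1 : ∀ i ∈ range n, ∑ a : E, ψ (a * y ^ (i + 1) * (a : A)⁻¹) =
      (∑ a : E, ψ a) * ψ (y ^ (i + 1)) := fun i hi => by
    let f : E → E := fun a => ⟨a * (y ^ (i + 1) * (a : A)⁻¹ * (y ^ (i + 1))⁻¹),
      mul_mem a.2 ((mem_normalizer_iff.1 (pow_mem hy _) _).1 (inv_mem a.2))⟩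
    have hi' : Function.Injective f := fun a b h => by
      have h2 : (a : A) * (y ^ (i + 1) * (a : A)⁻¹ * (y ^ (i + 1))⁻¹) =
        b * (y ^ (i + 1) * (b : A)⁻¹ * (y ^ (i + 1))⁻¹) := congrArg Subtype.val h
      have h3 := hf (i + 1) (by omega) (by simpa using hi) _ (mul_mem (inv_mem b.2) a.2) (by
        calc (b : A)⁻¹ * a * y ^ (i + 1)
            = (b : A)⁻¹ * (a * (y ^ (i + 1) * (a : A)⁻¹ * (y ^ (i + 1))⁻¹)) * y ^ (i + 1) * a := by
              group
          _ = _ := by rw [h2]; group)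
      exact (Subtype.ext (inv_mul_eq_one.1 h3)).symm
    rw [sum_mul]
    refine Fintype.sum_bijective f hi'.bijective_of_finite _ _ fun a => ?_
    rw [← map_mul]
    congr 1
    simp only [f]
    group
  have h2 : ∑ a : E, ψ a * (∑ i ∈ range (n + 1), ψ (y ^ i)) * ψ (a : A)⁻¹ = 0 := by
    simp only [h0, mul_zero, zero_mul, sum_const_zero]
  simp only [mul_sum, sum_mul, ← map_mul] at h2
  rw [sum_comm, sum_range_succ', sum_congr rfl h1, ← mul_sum] at h2
  rw [sum_range_succ', pow_zero, map_one, add_eq_zero_iff_eq_neg] at h0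
  rw [h0] at h2
  simp only [pow_zero, mul_one, mul_inv_cancel, map_one, sum_const, card_univ, nsmul_one, mul_neg,
    neg_add_eq_zero] at h2
  rw [Nat.card_eq_fintype_card, ← h2, mul_sum]
  exact Fintype.sum_equiv (Equiv.mulLeft (⟨e, he⟩ : E)) _ _ fun a => (map_mul ψ e a).symm

variable {G : Type*} [Group G] [Finite G]

/-- If the norm of the complement `⟨y⟩` kills `V`, the kernel `E` centralises `V`. -/
theorem frob {V K : Subgroup G} [V.Normal] [K.Normal] (hV : IsMulCommutative V)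
    (hK : K ≤ centralizer (V : Set G)) (E : Subgroup (G ⧸ K)) {y : G} {n : ℕ}
    (hy : (y : G ⧸ K) ∈ normalizer (E : Set (G ⧸ K)))
    (hf : ∀ i, 0 < i → i < n + 1 → ∀ e ∈ E, e * (y : G ⧸ K) ^ i = (y : G ⧸ K) ^ i * e → e = 1)
    (hc : (Nat.card E).Coprime (Nat.card V))
    (h0 : ∀ v ∈ V, (v * y) ^ (n + 1) = y ^ (n + 1)) {g : G} (hg : (g : G ⧸ K) ∈ E) :
    g ∈ centralizer (V : Set G) := by
  open scoped IsMulCommutative in
  let ψ₀ : G →* AddMonoid.End (Additive V) :=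
    { toFun := fun g => MonoidHom.toAdditive (MulAut.conjNormal (H := V) g).toMonoidHom
      map_one' := by rw [map_one]; rfl
      map_mul' := fun a b => by rw [map_mul]; rfl }
  have h1 : ∀ (g : G) (v : Additive V), ((ψ₀ g v).toMul : G) = g * v.toMul * g⁻¹ := fun _ _ => rfl
  let ψ : G ⧸ K →* AddMonoid.End (Additive V) := QuotientGroup.lift K ψ₀ fun k hk => by
    refine AddMonoidHom.ext fun v => Additive.toMul.injective (Subtype.ext ?_)
    refine (h1 k v).trans ?_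
    rw [← hK hk _ v.toMul.2, mul_inv_cancel_right]
    rfl
  have h2 : ∀ (m : ℕ) (v : Additive V), (((∑ i ∈ range m, ψ ((y : G ⧸ K) ^ i)) v).toMul : G) *
      y ^ m = (v.toMul * y) ^ m := fun m v => by
    induction m with
    | zero => simp
    | succ m ih =>
      rw [sum_range_succ, pow_succ _ m, pow_succ _ m, ← ih, ← QuotientGroup.mk_pow]
      change (((∑ i ∈ range m, ψ ((y : G ⧸ K) ^ i)) v).toMul : G) *
        ((ψ₀ (y ^ m) v).toMul : G) * _ = _
      rw [h1]
      group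
  have h3 := ring_frob ψ E hy hf (AddMonoidHom.ext fun v => Additive.toMul.injective
    (Subtype.ext (by
      have := h2 (n + 1) v
      rw [h0 _ v.toMul.2, mul_eq_right] at this
      exact this))) hg
  intro v hv
  obtain ⟨w, hw⟩ := (powCoprime hc.symm).surjective ⟨v, hv⟩
  have h4 := congrArg (fun f : AddMonoid.End (Additive V) => ((f (Additive.ofMul w)).toMul : G)) h3
  simp only [AddMonoid.End.coe_mul, Function.comp_apply, AddMonoid.End.natCast_apply] at h4
  change ((ψ₀ g _).toMul : G) = _ at h4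
  rw [h1, toMul_nsmul, toMul_ofMul, show w ^ Nat.card E = ⟨v, hv⟩ from hw,
    mul_inv_eq_iff_eq_mul] at h4
  exact h4.symm

/-- no prime divides three element orders -/
def H3 (G : Type*) [Group G] : Prop :=
  ∀ p a b c : ℕ, p.Prime → (∃ g : G, orderOf g = a) → (∃ g : G, orderOf g = b) →
    (∃ g : G, orderOf g = c) → a ≠ b → b ≠ c → a ≠ c → p ∣ a → p ∣ b → p ∣ c → False

theorem ord_dvd {m k : ℕ} (h : ∃ g : G, orderOf g = m) (hk : k ∣ m) : ∃ g : G, orderOf g = k := by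
  obtain ⟨g, rfl⟩ := h
  exact ⟨_, orderOf_pow_orderOf_div (orderOf_pos g).ne' hk⟩

theorem H3.len (h : H3 G) {m : ℕ} (hm : ∃ g : G, orderOf g = m) :
    m.primeFactorsList.length ≤ 2 := by
  have h0 : m ≠ 0 := by obtain ⟨g, rfl⟩ := hm; exact (orderOf_pos g).ne'
  have h1 := Nat.prod_primeFactorsList h0
  have h2 := @Nat.prime_of_mem_primeFactorsList m
  rcases hl : m.primeFactorsList with _ | ⟨p, _ | ⟨q, _ | ⟨r, l⟩⟩⟩
  · simp
  · simp
  · simp
  rw [hl] at h1 h2
  simp only [List.prod_cons] at h1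
  have hp := h2 (p := p) (by simp)
  have hq := (h2 (p := q) (by simp)).two_le
  have hr := (h2 (p := r) (by simp)).two_le
  have := hp.two_le
  refine (h p p (p * q) (p * q * r) hp (ord_dvd hm ⟨_, h1.symm⟩)
    (ord_dvd hm ⟨r * l.prod, by rw [← h1]; ring⟩) (ord_dvd hm ⟨l.prod, by rw [← h1]; ring⟩)
    (by nlinarith) (by nlinarith [Nat.mul_pos hp.pos (show 0 < q by omega)])
    (by nlinarith [Nat.mul_le_mul hq hr]) dvd_rfl (dvd_mul_right _ _)
    ⟨q * r, by ring⟩).elim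

theorem H3.quot (h : H3 G) (N : Subgroup G) [N.Normal] : H3 (G ⧸ N) := fun p a b c hp ha hb hc =>
  h p a b c hp (exists_dvd_of_quot ha) (exists_dvd_of_quot hb) (exists_dvd_of_quot hc)

omit [Finite G] in
theorem ord_of_inj {H : Type*} [Group H] {f : H →* G} (hf : Function.Injective f) {k : ℕ}
    (h : ∃ g : H, orderOf g = k) : ∃ g : G, orderOf g = k :=
  h.elim fun g hg => ⟨f g, (orderOf_injective f hf g).trans hg⟩

theorem ord_mul {x y : G} {r s : ℕ} (hx : r ∣ orderOf x) (hy : orderOf y = s) (hc : x * y = y * x)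
    (hrs : r.Coprime s) : ∃ g : G, orderOf g = s * r :=
  ⟨_, orderOf_mul_of_cent hy (orderOf_pow_orderOf_div (orderOf_pos x).ne' hx)
    (pow_mem (mem_centralizer_singleton_iff.2 hc) _) hrs.symm⟩

theorem exists_prime_norm (h : H3 G) (hns : ¬ Group.IsSolvable G) (h4 : ∀ g : G, orderOf g ≠ 4)
    (T : Sylow 2 G) : ∃ y ∈ normalizer ((T : Subgroup G) : Set G), (orderOf y).Prime ∧
      orderOf y ≠ 2 ∧ y ∉ centralizer ((T : Subgroup G) : Set G) := by
  by_contra h0
  push Not at h0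
  refine hns (Lyons.solv_of_npc (Transfer.hasNormalPComplement_of_normalizer_le_centralizer T ?_))
  obtain ⟨t, ht⟩ : ∃ t ∈ (T : Subgroup G), orderOf t = 2 := by
    obtain ⟨t, ht⟩ := exists_two_of_ns hns
    obtain ⟨s, hs⟩ := exists_prime_orderOf_dvd_card' 2 (T.dvd_card_of_dvd_card (ht ▸ orderOf_dvd_natCard t))
    exact ⟨s, s.2, by rwa [orderOf_coe]⟩
  have h1 := Core.eq_top_of_forall_sylow_le ((centralizer ((T : Subgroup G) : Set G)).subgroupOf
    (normalizer ((T : Subgroup G) : Set G))) fun u hu _ => by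
      haveI : Fact u.Prime := ⟨hu⟩
      obtain ⟨P⟩ : Nonempty (Sylow u (normalizer ((T : Subgroup G) : Set G))) := inferInstance
      refine ⟨P, fun x hx => ?_⟩
      obtain ⟨k, hk⟩ := IsPGroup.iff_orderOf.1 P.2 ⟨x, hx⟩
      rw [orderOf_mk, ← orderOf_coe] at hk
      by_cases e : u = 2
      · subst e
        have h2 : (x : G) ∈ (T : Subgroup G) := ((IsPGroup.inf_normalizer_sylow
          (IsPGroup.of_card (by rw [Nat.card_zpowers, hk])) T).le ⟨mem_zpowers _, x.2⟩).2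
        exact fun a ha => comm_of_no_four h4 T.2 a ha _ h2
      rcases k with _ | _ | k
      · rw [orderOf_eq_one_iff.1 hk |> OneMemClass.coe_eq_one.1]
        exact one_mem _
      · rw [zero_add, pow_one] at hk
        exact h0 x x.2 (hk ▸ hu) (hk ▸ e)
      have h2 : u ∣ orderOf (x : G) := hk ▸ dvd_pow_self u (by omega)
      have h3 := orderOf_pow_orderOf_div (orderOf_pos (x : G)).ne' h2
      have h5 := h0 _ (pow_mem x.2 _) (h3.symm ▸ hu) (h3.symm ▸ e)
      have := hu.two_le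
      exact (h u u (u * u) (2 * u) hu ⟨_, h3⟩ (ord_dvd ⟨_, hk⟩ ⟨u ^ k, by ring⟩)
        (ord_mul h3.symm.dvd ht.2 (h5 t ht.1).symm
          ((Nat.coprime_primes hu Nat.prime_two).2 e))
        (by nlinarith) (fun h6 => e (Nat.eq_of_mul_eq_mul_right hu.pos h6)) (by omega) dvd_rfl
        (dvd_mul_left _ _) (dvd_mul_left _ _)).elim
  exact subgroupOf_eq_top.1 h1

theorem H3.solv_normal (h : H3 G) (hns : ¬ Group.IsSolvable G) (h4 : ∀ g : G, orderOf g ≠ 4)
    (hs : ∀ t : G, orderOf t = 2 → Group.IsSolvable (centralizer ({t} : Set G)))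
    (N : Subgroup G) (hN : N.Normal) (hsN : Group.IsSolvable N) : N = ⊥ := by
  by_contra h0
  obtain ⟨V, s, _, h1, -, hp, ⟨hV, hVs⟩, -⟩ := Core.exists_minimal_normal_elementary_le N hsN h0
  haveI : Fact s.Prime := ⟨hp⟩
  have hv : ∀ v ∈ V, v ≠ 1 → orderOf v = s := fun v h2 h3 => orderOf_eq_prime (hVs v h2) h3
  obtain ⟨⟨v, hvV⟩, hv1⟩ := ne_bot_iff_exists_ne_one.1 h1
  have hv2 := hv v hvV fun e => hv1 (Subtype.ext e)
  have hVp : IsPGroup s V := fun a => ⟨1, Subtype.ext (by simpa using hVs a a.2)⟩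
  set K := centralizer (V : Set G)
  have hG := (Group.isSolvable_iff_subgroup_quotient K).not.1 hns
  by_cases h2 : s = 2
  · subst h2
    obtain ⟨T, hT⟩ := hVp.exists_le_sylow
    haveI := hs v hv2
    refine hG ⟨solvable_of_solvable_injective (inclusion_injective (H := K)
      (K := centralizer ({v} : Set G)) (centralizer_le (by simpa))), S0205.result ?_⟩
    rw [← Nat.not_even_iff_odd, even_iff_two_dvd]
    exact fun h5 => T.not_dvd_index (h5.trans (index_dvd_of_le fun a ha b hb =>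
      comm_of_no_four h4 T.2 b (hT hb) a ha))
  have hs2 := hp.two_le
  have hc : ∀ u, u.Prime → u ≠ s → u.Coprime s := fun u hu => (Nat.coprime_primes hu hp).2
  have key : ∀ u, u.Prime → u ≠ 2 → u ≠ s → (∃ g : G, orderOf g = s * 2) →
      ¬ ∃ g : G, orderOf g = s * u := fun u hu h5 h6 h7 h8 =>
    h s s (s * 2) (s * u) hp ⟨v, hv2⟩ h7 h8 (by omega)
      (fun e => h5 (Nat.eq_of_mul_eq_mul_left hp.pos e).symm) (by nlinarith [hu.two_le]) dvd_rfl
      (dvd_mul_right _ _) (dvd_mul_right _ _)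
  by_cases hA : Group.IsSolvable (G ⧸ K)
  · have hK : ¬ Group.IsSolvable K := fun e => hG ⟨e, hA⟩
    have k : ∀ u, u.Prime → u ≠ s → u ∣ Nat.card K → ∃ g : G, orderOf g = s * u :=
      fun u hu h5 h6 => by
        obtain ⟨x, hx⟩ := exists_prime_order hu h6
        exact ord_mul (x := (x : G)) (by rw [orderOf_coe, hx]) hv2 (x.2 v hvV).symm (hc u hu h5)
    obtain ⟨t, ht⟩ := exists_two_of_ns hK
    have k2 := k 2 Nat.prime_two (Ne.symm h2) (ht ▸ orderOf_dvd_natCard t)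
    obtain ⟨p, q, hp', hq', e1, e2, e3, e4, e5⟩ := exists_odd_primes hK
    by_cases e : p = s
    · exact key q hq' e2 (fun e' => e3 (e.trans e'.symm)) k2
        (k q hq' (fun e' => e3 (e.trans e'.symm)) e5)
    · exact key p hp' e1 e k2 (k p hp' e e4)
  have h4' : ∀ g : G ⧸ K, orderOf g ≠ 4 := fun g hg => (exists_dvd_of_quot ⟨g, hg⟩).elim h4
  obtain ⟨T⟩ : Nonempty (Sylow 2 (G ⧸ K)) := inferInstance
  obtain ⟨y, hy, hu, hu2, hyc⟩ := exists_prime_norm (h.quot K) hA h4' T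
  obtain ⟨y, rfl⟩ := QuotientGroup.mk_surjective y
  set u := orderOf (y : G ⧸ K) with hu'
  have hz : zpowers (y : G ⧸ K) ≤ normalizer ((T : Subgroup (G ⧸ K)) : Set (G ⧸ K)) :=
    zpowers_le.2 hy
  obtain ⟨k, hk⟩ := IsPGroup.iff_card.1 T.2
  have hco : (Nat.card (zpowers (y : G ⧸ K))).Coprime (Nat.card (T : Subgroup (G ⧸ K))) := by
    rw [Nat.card_zpowers, hk]
    exact ((Nat.coprime_primes hu Nat.prime_two).2 hu2).pow_right k
  set E := ⁅(T : Subgroup (G ⧸ K)), zpowers (y : G ⧸ K)⁆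
  have hE : E ≤ T := Core.commutator_le_of_le_normalizer hz
  have hE0 : E ≠ ⊥ := fun e =>
    hyc (Core.le_centralizer_iff_commutator_eq_bot.2 e (mem_zpowers _))
  have hyE : (y : G ⧸ K) ∈ normalizer (E : Set (G ⧸ K)) :=
    Core.le_normalizer_commutator hz le_normalizer (mem_zpowers _)
  have hf : ∀ i, 0 < i → i < u → ∀ e ∈ E, e * (y : G ⧸ K) ^ i = (y : G ⧸ K) ^ i * e → e = 1 :=
    fun i h5 h6 e he h7 => by
      refine mem_bot.1 ((Core.centralizer_inf_commutator_eq_bot _ _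
        ⟨⟨fun a b => Subtype.ext (comm_of_no_four h4' T.2 _ a.2 _ b.2)⟩⟩ hz hco).le
        ⟨⟨hE he, ?_⟩, he⟩)
      have h8 : zpowers (y : G ⧸ K) ≤ centralizer {e} := by
        rw [← eq_of_le_of_card_ge (H := zpowers ((y : G ⧸ K) ^ i)) (zpowers_le.2
          (pow_mem (mem_zpowers _) i)) (by
            rw [Nat.card_zpowers, Nat.card_zpowers,
              (Nat.coprime_of_lt_prime h5.ne' h6 hu).orderOf_pow])]
        exact zpowers_le.2 (mem_centralizer_singleton_iff.2 h7.symm)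
      exact fun a ha => mem_centralizer_singleton_iff.1 (h8 ha)
  obtain ⟨⟨e, he⟩, he1⟩ := ne_bot_iff_exists_ne_one.1 hE0
  replace he1 : e ≠ 1 := fun e' => he1 (Subtype.ext e')
  have k2 : ∃ g : G, orderOf g = s * 2 := by
    by_contra h5
    have k : ∀ g : G, (g : G ⧸ K) ∈ E → (g : G ⧸ K) ≠ 1 → ∀ w ∈ V, g * w * g⁻¹ = w⁻¹ :=
      fun g hg hg1 w hw => by
        have h6 := sq_of_no_four h4' T.2 _ (hE hg)
        have h7 : g * g ∈ K := (QuotientGroup.eq_one_iff _).1 h6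
        have h8 := ‹V.Normal›.conj_mem w hw g
        by_contra h9
        refine h5 (ord_mul (x := g) ?_ (hv (g * w * g⁻¹ * w) (mul_mem h8 hw)
          (mt eq_inv_of_mul_eq_one_left h9)) ?_ (hc 2 Nat.prime_two (Ne.symm h2)))
        · have := orderOf_map_dvd (QuotientGroup.mk' K) g
          rwa [QuotientGroup.mk'_apply, orderOf_eq_prime (by rw [sq, h6]) hg1] at this
        · have h10 : g * w * g⁻¹ * w = w * (g * w * g⁻¹) :=
            congrArg Subtype.val (hV.1.1 ⟨_, h8⟩ ⟨w, hw⟩)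
          calc g * (g * w * g⁻¹ * w) = (g * g * w) * g⁻¹ * w := by group
            _ = _ := by rw [← h7 w hw, h10]; group
    obtain ⟨g, rfl⟩ := QuotientGroup.mk_surjective e
    have h6 : ((y * g * y⁻¹ : G) : G ⧸ K) ∈ E := (mem_normalizer_iff.1 hyE _).1 he
    refine he1 (hf 1 one_pos hu.one_lt _ he ?_)
    rw [pow_one, eq_comm, ← mul_inv_eq_iff_eq_mul]
    refine QuotientGroup.eq.2 fun w hw => ?_
    have h7 := k _ h6 (fun e => he1 (by simpa using e)) w hw
    rw [← k g he he1 w hw] at h7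
    change w * ((y * g * y⁻¹)⁻¹ * g) = (y * g * y⁻¹)⁻¹ * g * w
    generalize y * g * y⁻¹ = a at h7 ⊢
    calc w * (a⁻¹ * g) = a⁻¹ * (a * w * a⁻¹) * g := by group
      _ = _ := by rw [h7]; group
  obtain ⟨n, hn⟩ : ∃ n, u = n + 1 := ⟨u - 1, by have := hu.pos; omega⟩
  obtain ⟨g, rfl⟩ := QuotientGroup.mk_surjective e
  refine he1 ((QuotientGroup.eq_one_iff _).2 (frob hV le_rfl E (n := n) hyE (hn ▸ hf) ?_
    (fun w hw => ?_) he))
  · obtain ⟨a, ha⟩ := IsPGroup.iff_card.1 (T.2.to_le hE)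
    obtain ⟨b, hb⟩ := IsPGroup.iff_card.1 hVp
    rw [ha, hb]
    exact (hc 2 Nat.prime_two (Ne.symm h2)).pow a b
  rw [← hn]
  have h5 : y ^ u ∈ K := (QuotientGroup.eq_one_iff _).1 (pow_orderOf_eq_one (y : G ⧸ K))
  obtain ⟨x, hx, h6⟩ : ∃ x ∈ V, (w * y) ^ u = x * y ^ u := ⟨(w * y) ^ u * (y ^ u)⁻¹, by
    rw [← QuotientGroup.eq_one_iff]
    simp [(QuotientGroup.eq_one_iff w).2 hw], by group⟩
  have h7 : y * x = x * y := by
    have h8 : w * x = x * w := congrArg Subtype.val (hV.1.1 ⟨w, hw⟩ ⟨x, hx⟩)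
    have h9 : w * y * (x * y ^ u) = x * y ^ u * (w * y) := by
      rw [← h6, ← pow_succ', pow_succ]
    refine mul_left_cancel (a := w) (mul_right_cancel (b := y ^ u) ?_)
    calc w * (y * x) * y ^ u = x * (y ^ u * w) * y := by rw [← mul_assoc x, mul_assoc _ w, ← h9]; group
      _ = _ := by rw [← h5 w hw, ← mul_assoc w, h8]; group
  by_contra h8
  have h9 := hv x hx fun e => h8 (by rw [h6, e, one_mul])
  have h10 : ∀ a : G, (a : G ⧸ K) = y → u ∣ orderOf a := fun a ha => by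
    have := orderOf_map_dvd (QuotientGroup.mk' K) a
    rwa [QuotientGroup.mk'_apply, ha] at this
  by_cases e : u = s
  swap
  · exact key u hu hu2 e k2 (ord_mul (h10 y rfl) h9 h7 (hc u hu e))
  have h11 : ∀ a : G, (a : G ⧸ K) = y → (a ^ u) ^ 2 = 1 := fun a ha => by
    rw [← pow_mul, e]
    by_contra h12
    exact h s s (s * 2) _ hp ⟨v, hv2⟩ k2 ⟨a, rfl⟩ (by omega)
      (fun e => h12 (e ▸ pow_orderOf_eq_one a))
      (fun e => h12 (by rw [pow_mul, e, pow_orderOf_eq_one, one_pow])) dvd_rfl (dvd_mul_right _ _)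
      (e ▸ h10 a ha)
  have h12 := h11 (w * y) (by
    rw [QuotientGroup.mk_mul, (QuotientGroup.eq_one_iff (N := K) w).2 fun a ha =>
      congrArg Subtype.val (hV.1.1 ⟨a, ha⟩ ⟨w, hw⟩), one_mul])
  rw [h6, (show Commute x (y ^ u) from h5 x hx).mul_pow, h11 y rfl, mul_one] at h12
  exact h2 ((Nat.prime_dvd_prime_iff_eq hp Nat.prime_two).1 (h9 ▸ orderOf_dvd_of_pow_eq_one h12))

section aut

variable {F : Type*} [Field F]

theorem u_fA_pow (σ : F ≃+* F) (b : F) (n : ℕ) :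
    (dA (gm 1 b 0 1 (by simp)) * fA (Fin 2) σ) ^ n =
      dA (gm 1 (∑ i ∈ range n, (σ ^ i) b) 0 1 (by simp)) * fA (Fin 2) (σ ^ n) := by
  induction n with
  | zero =>
    simp only [pow_zero, map_one, mul_one]
    exact (PG.dA_one.2 ⟨1, by simp [Matrix.one_fin_two]⟩).symm
  | succ n ih =>
    rw [pow_succ, ih, mul_assoc, ← mul_assoc (fA _ _), fA_gm, mul_assoc, ← map_mul (fA _),
      ← pow_succ, ← mul_assoc, ← map_mul dA]
    congr 2
    ext i j
    fin_cases i <;> fin_cases j <;> simp [sum_range_succ, add_comm]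

theorem u_ne_one {b : F} (hb : b ≠ 0) : dA (gm 1 b 0 1 (by simp)) ≠ 1 := fun e => by
  obtain ⟨c, hc⟩ := PG.dA_one.1 e
  exact hb (by simpa using congrFun (congrFun hc 0) 1)

theorem u_pow_char (b : F) {p : ℕ} (hp : (p : F) = 0) : dA (gm 1 b 0 1 (by simp)) ^ p = 1 := by
  have := u_fA_pow (1 : F ≃+* F) b p
  simp only [map_one, mul_one, one_pow] at this
  rw [this]
  exact PG.dA_one.2 ⟨1, by simp [Matrix.one_fin_two, hp]⟩

theorem exists_sq_order {σ : F ≃+* F} {p : ℕ} [hp : Fact p.Prime] (hσ : orderOf σ = p)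
    (h : (p : F) = 0) {b : F} (hb : ∑ i ∈ range p, (σ ^ i) b ≠ 0) :
    orderOf (dA (gm 1 b 0 1 (by simp)) * fA (Fin 2) σ) = p ^ 2 := by
  have h1 := u_fA_pow σ b p
  rw [show σ ^ p = 1 from hσ ▸ pow_orderOf_eq_one σ, map_one (fA _), mul_one (dA _)] at h1
  exact orderOf_eq_prime_pow (by rw [pow_one, h1]; exact u_ne_one hb)
    (by rw [pow_succ, pow_one, pow_mul, h1, u_pow_char _ h])

theorem three_y : orderOf (dA (gm (0 : F) (-1) 1 (-1) (by simp))) = 3 := by
  haveI : Fact (Nat.Prime 3) := ⟨Nat.prime_three⟩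
  refine orderOf_eq_prime ?_ fun e => ?_
  · rw [← map_pow, PG.dA_one]
    exact ⟨1, by simp [Matrix.one_fin_two, pow_succ]⟩
  · obtain ⟨c, hc⟩ := PG.dA_one.1 e
    simpa using congrFun (congrFun hc 0) 1

theorem four_g (h2 : (2 : F) ≠ 0) :
    orderOf (dA (gm (1 : F) 1 (-1) 1 (by rwa [← one_add_one_eq_two, ← sub_neg_eq_add,
      ← mul_one (1 : F), ← mul_neg] at h2))) = 2 ^ (1 + 1) := by
  refine orderOf_eq_prime_pow (fun e => ?_) ?_
  · rw [← map_pow, PG.dA_one] at e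
    obtain ⟨c, hc⟩ := e
    have := congrFun (congrFun hc 0) 1
    simp [pow_succ] at this
    exact h2 (by linear_combination this)
  · rw [← map_pow, PG.dA_one]
    refine ⟨-4, ?_⟩
    ext i j
    fin_cases i <;> fin_cases j <;> simp [pow_succ] <;> norm_num

variable [Fintype F]

theorem exists_card_pow {σ : F ≃+* F} {r : ℕ} (h : orderOf σ = r) :
    ∃ a, a ∣ Fintype.card F ∧ Fintype.card F = a ^ r := by
  obtain ⟨n, hp, hn⟩ := FiniteField.card F (ringChar F)
  haveI := Fact.mk hp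
  obtain ⟨m, hm⟩ := orderOf_dvd_natCard σ
  rw [card_ringAut (Nat.card_eq_fintype_card.trans hn), h] at hm
  have : 0 < r := Nat.pos_of_ne_zero fun e => n.ne_zero (by rw [hm, e, zero_mul])
  exact ⟨ringChar F ^ m, by rw [hn, hm]; exact pow_dvd_pow _ (Nat.le_mul_of_pos_left _ this),
    by rw [hn, hm, mul_comm, pow_mul]⟩

theorem exists_nine (h4 : 4 ≤ Fintype.card F) {σ : F ≃+* F} (hσ : orderOf σ = 3)
    (h3 : (3 : F) ≠ 0) : ∃ g : PSL(2, F), orderOf g = 9 := by
  obtain ⟨a, ha, h⟩ := exists_card_pow hσ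
  have h1 : ¬ 3 ∣ a := fun e => h3 (by
    obtain ⟨k, hk⟩ := e.trans ha
    have := FiniteField.cast_card_eq_zero F
    obtain ⟨n, hp, hn⟩ := FiniteField.card F (ringChar F)
    have h5 := (Nat.prime_dvd_prime_iff_eq Nat.prime_three hp).1
      (Nat.prime_three.dvd_of_dvd_pow (hn ▸ e.trans ha))
    exact_mod_cast (ringChar.spec F 3).2 h5.symm.dvd)
  have h2 : Fintype.card F % 9 = 1 ∨ Fintype.card F % 9 = 8 := by
    rw [h, Nat.pow_mod]
    have h5 : a % 9 % 3 ≠ 0 := by omega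
    have h6 := Nat.mod_lt a (show 0 < 9 by decide)
    interval_cases a % 9 <;> simp_all
  by_cases hc : ringChar F = 2
  · obtain ⟨n, -, hn⟩ := FiniteField.card F (ringChar F)
    rw [hc] at hn
    refine exists_order_even (n := n) ((Nat.pow_le_pow_iff_right (a := 2) (by decide)).1
      (by omega)) hn ?_
    omega
  · have := FiniteField.odd_card_of_char_ne_two hc
    exact exists_order_odd (c := Fintype.card F / 2) (by omega) (by omega) (by omega)

theorem H3.eq_inn {F : Type} [Field F] [Fintype F] {φ : G →* MulAut PSL(2, F)} (h : H3 G)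
    (hφ : Function.Injective φ) (hL : Inn PSL(2, F) ≤ φ.range) (h4 : ∀ g : G, orderOf g ≠ 4)
    (hF : 4 ≤ Fintype.card F)
    (h8 : ringChar F = 2 ∨ Fintype.card F % 8 = 3 ∨ Fintype.card F % 8 = 5) :
    φ.range = Inn PSL(2, F) := by
  have k : ∀ a ∈ φ.range, ∃ g : G, orderOf g = orderOf a := by
    rintro _ ⟨g, rfl⟩
    exact ⟨g, (orderOf_injective φ hφ g).symm⟩
  have hF' : ∀ τ : F ≃+* F, (orderOf τ).Prime → (orderOf τ = 2 → ringChar F = 2) →
      fA (Fin 2) τ ∉ φ.range := fun τ hτ h2 hX => by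
    have hu : ∀ b : F, dA (gm 1 b 0 1 (by simp)) * fA (Fin 2) τ ∈ φ.range := fun b =>
      mul_mem (hL (gm_inn _ (by simp))) hX
    obtain ⟨c, hc⟩ : ∃ c, τ c ≠ c := by
      by_contra h5
      push Not at h5
      rw [show τ = 1 from RingEquiv.ext h5, orderOf_one] at hτ
      exact hτ.ne_one rfl
    by_cases e : orderOf τ = 2
    · haveI : CharP F 2 := h2 e ▸ ringChar.charP F
      obtain ⟨g, hg⟩ := k _ (hu c)
      rw [exists_sq_order e CharTwo.two_eq_zero (by
        simpa [sum_range_succ, CharTwo.add_eq_zero] using hc.symm)] at hg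
      exact h4 g hg
    obtain ⟨f, hf⟩ := hX
    have ho : orderOf f = orderOf τ :=
      (orderOf_injective φ hφ f).symm.trans (hf ▸ orderOf_injective _ fA_injective τ)
    have k1 : ∀ (x : GL (Fin 2) F) (r : ℕ), dA x ∈ φ.range → orderOf (dA x) = r → r.Prime →
        r ≠ orderOf τ → fA (Fin 2) τ * dA x = dA x * fA (Fin 2) τ →
        ∃ g : G, orderOf g = orderOf τ * r := fun x r ⟨a, ha⟩ h5 h6 h7 h9 =>
      ord_mul (x := a) (by rw [← orderOf_injective φ hφ, ha, h5]) ho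
        (hφ (by rw [map_mul, map_mul, ha, hf, h9])) ((Nat.coprime_primes h6 hτ).2 h7)
    have k2 := k1 _ 2 (hL (gm_inn _ (by simp))) two_w Nat.prime_two (Ne.symm e)
      (by rw [fA_gm]; simp only [map_zero, map_one, map_neg])
    have := hτ.two_le
    by_cases e3 : orderOf τ = 3
    swap
    · exact h _ _ _ _ hτ ⟨f, ho⟩ k2 (k1 _ 3 (hL (gm_inn _ (by simp))) three_y Nat.prime_three
        (Ne.symm e3) (by rw [fA_gm]; simp only [map_zero, map_one, map_neg])) (by omega) (by omega)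
        (by omega) dvd_rfl (dvd_mul_right _ _) (dvd_mul_right _ _)
    rw [e3] at k2 ho
    refine h 3 3 6 9 Nat.prime_three ⟨f, ho⟩ k2 ?_ (by decide) (by decide) (by decide) (by decide)
      (by decide) (by decide)
    by_cases h3 : (3 : F) = 0
    · haveI : Fact (Nat.Prime 3) := ⟨Nat.prime_three⟩
      obtain ⟨b, hb⟩ : ∃ b, ∑ i ∈ range 3, (τ ^ i) b ≠ 0 := by
        by_contra h5
        push Not at h5
        simp only [sum_range_succ, range_zero, sum_empty, zero_add, pow_zero, pow_one, sq,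
          RingAut.mul_apply, RingAut.one_apply] at h5
        have h6 := h5 c
        have h7 := h5 (c * c)
        simp only [map_mul] at h7
        have h9 : (τ c - c) ^ 2 = 0 := by
          linear_combination (τ (τ c) - c - τ c) * h6 - h7 + (c ^ 2 + τ c ^ 2) * h3
        exact hc (sub_eq_zero.1 (pow_eq_zero_iff two_ne_zero |>.1 h9))
      obtain ⟨g, hg⟩ := k _ (hu b)
      exact ⟨g, by rw [hg, exists_sq_order e3 h3 hb]; rfl⟩
    · obtain ⟨x, hx⟩ := exists_nine hF e3 h3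
      obtain ⟨g, hg⟩ := k _ (hL ⟨x, rfl⟩)
      exact ⟨g, by rw [hg, orderOf_injective _ Part.conj_injective, hx]⟩
  have h1 : φ.range ≤ (dA : GL (Fin 2) F →* _).range := by
    obtain ⟨ρ, h1, h3⟩ := PG.exists_decomp' (F := F)
    intro a₀ ha₀
    by_contra hn
    have : Finite (F ≃+* F) := finite_ringAut
    have h0 : ρ a₀ ≠ 1 := fun e => by
      obtain ⟨k, hk⟩ := h3 a₀
      exact hn ⟨k, by rw [hk, e, map_one, mul_one]⟩
    obtain ⟨r, hr, hr'⟩ := Nat.exists_prime_and_dvd (mt orderOf_eq_one_iff.1 h0)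
    obtain ⟨a, ha, ho⟩ : ∃ a ∈ φ.range, orderOf (ρ a) = r :=
      ⟨a₀ ^ (orderOf (ρ a₀) / r), pow_mem ha₀ _, by
        rw [map_pow, orderOf_pow_orderOf_div (orderOf_pos _).ne' hr']⟩
    obtain ⟨k, hk⟩ := h3 a
    set σ := ρ a
    rcases hr.eq_two_or_odd' with rfl | h2
    · have hc : ringChar F = 2 := h8.resolve_right fun h5 => by
        obtain ⟨b, -, hb⟩ := exists_card_pow ho
        rw [hb, Nat.pow_mod] at h5
        have h6 := Nat.mod_lt b (show 0 < 8 by decide)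
        interval_cases b % 8 <;> simp_all
      exact hF' σ (ho ▸ hr) (fun _ => hc) ((mul_mem_cancel_left (hL (PG.dA_mem_inn.2
        (FiniteField.isSquare_of_char_two hc _)))).1 (hk ▸ ha))
    have h5 : orderOf (σ * σ) = r := by
      rw [← sq, (Nat.coprime_two_right.2 (ho ▸ h2)).orderOf_pow, ho]
    refine hF' (σ * σ) (h5 ▸ hr) (fun e => absurd h2 (by rw [← h5, e]; decide)) ?_
    have e : a * a = dA (k * Matrix.GeneralLinearGroup.map σ.toRingHom k) * fA (Fin 2) (σ * σ) := by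
      rw [hk, map_mul, map_mul, mul_assoc, ← mul_assoc (fA _ σ), fA_mul_dA]
      simp only [mul_assoc]
    refine (mul_mem_cancel_left (hL (PG.dA_mem_inn.2 ?_))).1 (e ▸ mul_mem ha ha)
    rw [Units.val_mul, Matrix.det_mul]
    convert PG.sq_mul_map σ k.1.det
    exact (σ.toRingHom.map_det k.1).symm
  refine (Part.eq_inn_or hL h1).elim id fun e => le_antisymm ?_ hL
  by_cases hc : ringChar F = 2
  · rw [e]
    rintro _ ⟨g, rfl⟩
    exact PG.dA_mem_inn.2 (FiniteField.isSquare_of_char_two hc _)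
  · obtain ⟨g, hg⟩ := k _ (e.ge ⟨_, rfl⟩)
    exact absurd (hg.trans (four_g (Ring.two_ne_zero hc))) (h4 g)

end aut

theorem exists_frob_sz (h : Ord2 G) (hS : Cfsg.Lie.IsoSuzuki G) : ∃ (U : Subgroup G) (y : G),
    U ≠ ⊥ ∧ Odd (Nat.card U) ∧ y ∈ normalizer (U : Set G) ∧ orderOf y = 4 := by
  obtain ⟨F, _, _, m, hm, hF, ⟨e⟩⟩ := hS
  replace e := e.trans (RankOne.Sz.lieEquiv hF hm)
  obtain ⟨U, -, h1, -, h2⟩ := S0333.result hm hF _ (Or.inl rfl)
  have h3 : ∀ X : Subgroup (Cfsg.Sz F m), Nat.card (X.map e.symm.toMonoidHom) = Nat.card X :=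
    fun X => card_map_of_injective e.symm.injective
  have h4 := h3 (normalizer U)
  rw [map_equiv_normalizer_eq, h2] at h4
  set V := U.map e.symm.toMonoidHom
  have h5 : Odd (Nat.card V) := by
    rw [h3, h1]
    exact (((even_two.pow_of_ne_zero (by omega)).add (even_two.pow_of_ne_zero (by omega)))).add_one
  have h6 : V ≠ ⊥ := fun e => by
    have := h3 U
    rw [show U.map _ = ⊥ from e, card_bot, h1] at this
    have := Nat.one_le_two_pow (n := m + 1)
    omega
  obtain ⟨Q, hQ⟩ := Sylow.exists_subgroup_card_pow_prime (G := normalizer (V : Set G)) 2 (n := 2)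
    (h4 ▸ dvd_mul_right _ _)
  by_contra h7
  push Not at h7
  have h8 : ∀ a : Q, a ≠ 1 → orderOf ((a : normalizer (V : Set G)) : G) = 2 := fun a ha => by
    have h9 := orderOf_dvd_natCard a
    rw [hQ, Nat.dvd_prime_pow Nat.prime_two] at h9
    obtain ⟨k, hk, h9⟩ := h9
    have h10 := h7 V _ h6 h5 a.1.2
    rw [orderOf_coe, orderOf_coe] at h10 ⊢
    interval_cases k
    · exact absurd (orderOf_eq_one_iff.1 h9) ha
    · exact h9
    · exact absurd h9 h10
  haveI : Nontrivial Q := Finite.one_lt_card_iff_nontrivial.1 (by rw [hQ]; decide)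
  obtain ⟨s, hs⟩ := exists_ne (1 : Q)
  obtain ⟨t, ht⟩ : ∃ t : Q, t ∉ zpowers s := by
    by_contra h9
    push Not at h9
    have := Nat.card_zpowers s
    rw [(eq_top_iff' _).2 h9, card_top, hQ, ← orderOf_coe, ← orderOf_coe, h8 s hs] at this
    omega
  refine h6 (h.bot_of_four (fun x hx => h5.of_dvd_nat (V.orderOf_dvd_natCard hx)) (h8 s hs)
    (h8 t fun e => ht (e ▸ one_mem _)) (h8 (s * t) fun e => ht ?_)
    (fun x => (mem_normalizer_iff.1 s.1.2 x).1) (fun x => (mem_normalizer_iff.1 t.1.2 x).1))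
  rw [eq_inv_of_mul_eq_one_right e]
  exact inv_mem (mem_zpowers s)

theorem core_bot_of_sz (h : Ord2 G) (h8 : ∀ g : G, orderOf g ≠ 8)
    (hS : Cfsg.Lie.IsoSuzuki (G ⧸ Cfsg.pCore 2 G)) : Cfsg.pCore 2 G = ⊥ := by
  by_contra h0
  set K := Cfsg.pCore 2 G
  have hK : IsPGroup 2 K := Core.pCore_isPGroup 2
  have hA : Ord2 (G ⧸ K) := ord2_of_cit ((cit_of_ord2 h).quot K hK)
  obtain ⟨U, y, h1, h2, h3, h4⟩ := exists_frob_sz hA hS
  obtain ⟨y, rfl⟩ := QuotientGroup.mk_surjective y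
  haveI : Nontrivial K := (nontrivial_iff_ne_bot K).2 h0
  obtain ⟨z, -, hz, hz2⟩ := PGrp.exists_mem_center_orderOf_eq hK ⊤ top_ne_bot
  obtain ⟨⟨u, hu⟩, hu1⟩ := ne_bot_iff_exists_ne_one.1 h1
  obtain ⟨u, rfl⟩ := QuotientGroup.mk_surjective u
  have h5 : ∀ a : G, (a : G ⧸ K) = y → a ^ (3 + 1) = 1 := fun a ha => by
    have h6 := orderOf_map_dvd (QuotientGroup.mk' K) a
    rw [QuotientGroup.mk'_apply, ha, h4] at h6
    obtain ⟨k, hk⟩ := h a (Dvd.dvd.trans (by decide) h6)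
    refine orderOf_dvd_iff_pow_eq_one.1 (hk ▸ pow_dvd_pow 2 (show k ≤ 2 from not_lt.1 fun e => ?_))
    exact (ord_dvd ⟨a, hk⟩ (pow_dvd_pow 2 e : 2 ^ 3 ∣ _)).elim h8
  have h6 := frob (V := K ⊓ centralizer (K : Set G)) (K := K)
    ⟨⟨fun a b => Subtype.ext (b.2.2 a a.2.1)⟩⟩ (fun a ha b hb => (hb.2 a ha).symm) U (n := 3) h3
    (fun i h6 h7 e he h9 => by
      by_contra h10
      have h11 := hA.odd_cent (h2.of_dvd_nat (U.orderOf_dvd_natCard he)) h10 _
        (mem_centralizer_singleton_iff.2 h9.symm)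
      rw [orderOf_pow, h4] at h11
      interval_cases i <;> exact absurd h11 (by decide))
    (by
      obtain ⟨k, hk⟩ := IsPGroup.iff_card.1 (hK.to_le (inf_le_left (b := centralizer (K : Set G))))
      exact hk ▸ (Nat.coprime_two_right.2 h2).pow_right k)
    (fun v hv => by
      rw [h5 y rfl, h5 _ (by rw [QuotientGroup.mk_mul, (QuotientGroup.eq_one_iff v).2 hv.1, one_mul])])
    hu
  obtain ⟨k, hk⟩ := IsPGroup.iff_orderOf.1 (cit_of_ord2 h z (by rwa [orderOf_coe])) ⟨u,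
    mem_centralizer_singleton_iff.2 (h6 z ⟨z.2, fun a ha =>
      congrArg Subtype.val (mem_center_iff.1 hz ⟨a, ha⟩)⟩).symm⟩
  rw [orderOf_mk] at hk
  exact hu1 (Subtype.ext (orderOf_eq_one_iff.1 (odd_dvd_two_pow
    (h2.of_dvd_nat (U.orderOf_dvd_natCard hu)) (hk ▸ orderOf_map_dvd (QuotientGroup.mk' K) u))))

theorem H3.caseB {G : Type u} [Group G] [Finite G] (h : H3 G) (hns : ¬ Group.IsSolvable G) {r : ℕ}
    (hr : r.Prime) (h2 : r ≠ 2) (hg : ∃ g : G, orderOf g = 2 * r) :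
    Cfsg.pCore 2 G = ⊥ ∧ (L2E G ∨ L2O G) := by
  have := hr.two_le
  have h4 : ∀ g : G, orderOf g ≠ 4 := fun g e => h 2 2 (2 * r) 4 Nat.prime_two
    (exists_two_of_ns hns) hg ⟨g, e⟩ (by omega) (by omega) (by omega) dvd_rfl (dvd_mul_right _ _)
    (by decide)
  have hs := solv_cent (G := G) fun p q hp hq _ _ e1 e2 => by_contra fun e => h 2 2 (2 * p) (2 * q)
    Nat.prime_two (exists_two_of_ns hns) e1 e2 (by have := hp.two_le; omega) (by omega)
    (by have := hq.two_le; omega) dvd_rfl (dvd_mul_right _ _) (dvd_mul_right _ _)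
  have h0 := h.solv_normal hns h4 hs
  refine ⟨h0 _ inferInstance (solv_two (Core.pCore_isPGroup 2)), ?_⟩
  haveI : Nontrivial G := not_subsingleton_iff_nontrivial.1 fun _ => hns inferInstance
  obtain ⟨N, _, _, h1, hC⟩ := exists_simple h0 hs
  have k : ∀ {F : Type} [Field F] [Fintype F], (N ≃* PSL(2, F)) → 4 ≤ Fintype.card F →
      ringChar F = 2 ∨ Fintype.card F % 8 = 3 ∨ Fintype.card F % 8 = 5 →
      Nonempty (G ≃* PSL(2, F)) := fun e h5 h6 => by
    obtain ⟨φ, hφ, hL, -⟩ := exists_embed hC e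
    have e1 := MonoidHom.ofInjective hφ
    rw [h.eq_inn hφ hL h4 h5 h6] at e1
    exact ⟨e1.trans (MonoidHom.ofInjective Part.conj_injective).symm⟩
  rcases abel_simple h1 (fun g e => h4 g (by rwa [orderOf_coe])) (fun t ht => by
    haveI := hs t (by rwa [orderOf_coe])
    exact solvable_of_solvable_injective (f := ((N.subtype.comp (centralizer {t}).subtype).codRestrict
      (centralizer {(t : G)}) fun a => mem_centralizer_singleton_iff.2
        (congrArg Subtype.val (mem_centralizer_singleton_iff.1 a.2))))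
      fun a b e => Subtype.ext (Subtype.ext
        (congrArg (fun x : centralizer ({(t : G)} : Set G) => (x : G)) e))) with
    ⟨F, _, _, n, hn, hF, ⟨e⟩⟩ | ⟨F, _, _, h5, h6, ⟨e⟩⟩
  · exact Or.inl ⟨F, _, _, n, hn, hF, k e (hF ▸ four_le_pow hn)
      (Or.inl (ringChar_of_card Nat.prime_two hF))⟩
  · exact Or.inr ⟨F, _, _, h5, h6, k e h6 (Or.inr h5)⟩

end Cfsg.Agent.CIT.F
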