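import Mathlib
import Cfsg.Agent.CIT.F7
import Cfsg.Agent.CIT.Hig2
import Cfsg.Agent.S0254
import Cfsg.Agent.S3050
import Cfsg.Agent.Max.Dk
import Cfsg.Agent.Classical.AltHom

/-! Groups whose element orders are `1, …, 5`. -/

set_option autoImplicit false
set_option linter.unusedSectionVars false

namespace Cfsg.Agent.CIT.Sp5

open Subgroup Cfsg.Agent.CIT.F Cfsg.Agent.CIT.Hig
open scoped MatrixGroups Matrix

universe u

variable {G : Type u} [Group G] [Finite G]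

theorem epp (h : ∀ g : G, orderOf g ≤ 5) : Epp G := fun g hg => by
  have h1 := h g
  have h2 := orderOf_pos g
  have h3 : orderOf g ≠ 1 := by simpa using hg
  have : orderOf g = 2 ∨ orderOf g = 3 ∨ orderOf g = 4 ∨ orderOf g = 5 := by omega
  rcases this with e | e | e | e <;> rw [e]
  exacts [Nat.prime_two.isPrimePow, Nat.prime_three.isPrimePow,
    Nat.prime_two.isPrimePow.pow (n := 2) two_ne_zero, Nat.prime_five.isPrimePow]

theorem fpf (h : ∀ g : G, orderOf g ≤ 5) {Q : Subgroup G} (hQ : IsPGroup 2 Q) {x : G}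
    (hx : orderOf x = 3) : ∀ q ∈ Q, x * q * x⁻¹ = q → q = 1 := fun q hq e => by
  by_contra h1
  obtain ⟨k, hk⟩ := (IsPGroup.iff_orderOf.1 hQ) ⟨q, hq⟩
  rw [Subgroup.orderOf_mk] at hk
  have : x = 1 := (epp h).ord2.one_of_comm (hx ▸ by decide) (t := q) (by
    rcases k with _ | k
    · simp [h1] at hk
    · rw [hk]; exact dvd_pow_self 2 k.succ_ne_zero) (mul_inv_eq_iff_eq_mul.1 e)
  simp [this] at hx

theorem struct5 (h : ∀ g : G, orderOf g ≤ 5) (h2 : ∃ g : G, orderOf g = 2)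
    (h3 : ∃ g : G, orderOf g = 3) (h5 : ∃ g : G, orderOf g = 5) :
    Nonempty (G ≃* alternatingGroup (Fin 6)) ∨ L2 4 (G ⧸ Cfsg.pCore 2 G) := by
  have no : ∀ k, 5 < k → ¬ ∃ g : G, orderOf g = k := fun k hk ⟨g, e⟩ => by
    have := h g; omega
  have dv : ∀ {k}, (∃ g : G, orderOf g = k) → k ∣ Nat.card G := fun ⟨g, e⟩ =>
    e ▸ orderOf_dvd_natCard g
  have hns : ¬ Group.IsSolvable G := not_solv_of_three (p := 2) (q := 3) (r := 5) (by decide)
    (by decide) (by decide) (by decide) (by decide) (by decide) (dv h2) (dv h3) (dv h5)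
    (fun g e => no _ (by decide) ⟨g, e⟩) (fun g e => no _ (by decide) ⟨g, e⟩)
    (fun g e => no _ (by decide) ⟨g, e⟩)
  have q7 : ¬ 7 ∣ Nat.card G := fun e => no 7 (by decide) (exists_prime_order (by decide) e)
  have qq : ∀ {n}, Nat.card (G ⧸ Cfsg.pCore 2 G) = n → ∀ r, r ∣ n → r ∣ Nat.card G :=
    fun e r hr => (e ▸ hr).trans (card_quotient_dvd_card _)
  rcases eppo_struct (epp h) hns with e | e | e | e | ⟨-, e | e | e | e | e⟩
  · exact Or.inr e
  · exact (q7 (qq e.card8 7 (by decide))).elim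
  · exact (q7 (qq e.card1 7 (by decide))).elim
  · exact (no 31 (by decide) (exists_prime_order (by decide) (qq e.card2 31 (by decide)))).elim
  · exact (q7 (e.card7 ▸ by decide)).elim
  · exact (no 17 (by decide) (exists_prime_order (by decide) (e.card17 ▸ by decide))).elim
  · obtain ⟨F, _, _, hF, ⟨f⟩⟩ := e
    obtain ⟨g⟩ := S0254.result hF
    exact Or.inl ⟨f.trans g⟩
  · exact (no 7 (by decide) (e.ord (Or.inl dvd_rfl))).elim
  · obtain ⟨-, -, -, -, -, e⟩ := e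
    exact (no 8 (by decide) e).elim

theorem two_eq_zero {F : Type*} [Field F] [Fintype F] (hF : Fintype.card F = 4) : (2 : F) = 0 := by
  obtain ⟨_, -⟩ := field_facts (K := F) (n := 2) le_rfl (Nat.card_eq_fintype_card.trans hF)
  exact CharTwo.two_eq_zero

theorem elem_ab (h : ∀ g : G, orderOf g ≤ 5) (h3 : ∃ g : G, orderOf g = 3)
    (e : L2 4 (G ⧸ Cfsg.pCore 2 G)) : Cfsg.IsElementaryAbelian 2 (Cfsg.pCore 2 G) := by
  obtain ⟨F, _, _, hF, ⟨f⟩⟩ := e
  obtain ⟨x, hx⟩ := h3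
  exact (S3050.result _ LocalEven.isPGroup_pCore 2 le_rfl F hF
    (f.trans (Classical.PSL2Basic.slEquivPSL (two_eq_zero hF)).symm) x hx
    (fpf h LocalEven.isPGroup_pCore hx)).1

theorem cube_of (h : ∀ g : G, orderOf g ≤ 5) {X : Type*} [Group X] (π : G →* X) {g : G}
    (h1 : π g ≠ 1) (h3 : π g ^ 3 = 1) : orderOf g = 3 := by
  have := orderOf_map_dvd π g
  rw [orderOf_eq_prime h3 h1] at this
  have h4 := h g
  have h5 := orderOf_pos g
  omega

theorem gens : ∃ A C D : alternatingGroup (Fin 5), A ≠ 1 ∧ A ^ 3 = 1 ∧ A * C * A * C⁻¹ = 1 ∧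
    C * C = 1 ∧ A * (D * C * D⁻¹) ≠ 1 ∧ (A * (D * C * D⁻¹)) ^ 3 = 1 ∧ D * C * D⁻¹ * C ≠ 1 ∧
    (D * C * D⁻¹ * C) ^ 3 = 1 :=
  ⟨⟨Equiv.swap 0 1 * Equiv.swap 1 2, by rw [Equiv.Perm.mem_alternatingGroup]; decide⟩,
    ⟨Equiv.swap 0 1 * Equiv.swap 3 4, by rw [Equiv.Perm.mem_alternatingGroup]; decide⟩,
    ⟨Equiv.swap 2 3 * Equiv.swap 3 4, by rw [Equiv.Perm.mem_alternatingGroup]; decide⟩,
    by simp only [ne_eq, Subtype.ext_iff]; decide +kernel⟩

/-- The extension splits. -/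
theorem split (h : ∀ g : G, orderOf g ≤ 5) (π : G →* alternatingGroup (Fin 5))
    (hs : Function.Surjective π) (hQ : IsPGroup 2 π.ker) :
    ∃ σ : alternatingGroup (Fin 5) →* G, ∀ y, π (σ y) = y := by
  obtain ⟨A, C, D, h1, h2, h3, h4, h5, h6, h7, h8⟩ := gens
  obtain ⟨a, rfl⟩ := hs A
  obtain ⟨c0, rfl⟩ := hs C
  obtain ⟨d, rfl⟩ := hs D
  have a3 : orderOf a = 3 := cube_of h π h1 h2
  have a3' : a ^ 3 = 1 := a3 ▸ pow_orderOf_eq_one a
  have hf := fpf h hQ a3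
  have hFP : FP (MulAut.conjNormal a : MulAut π.ker) := ⟨by rw [← map_pow, a3', map_one],
    fun g e => Subtype.ext (hf g g.2 (congrArg Subtype.val e))⟩
  have hw : (a * c0 * a * c0⁻¹)⁻¹ ∈ π.ker := inv_mem (by simpa using h3)
  obtain ⟨⟨q, q2⟩, hq⟩ := hFP.surj ⟨_, hw⟩
  have hq' : q⁻¹ * (a * q * a⁻¹) = (a * c0 * a * c0⁻¹)⁻¹ := congrArg Subtype.val hq
  obtain ⟨c, hc, hπ⟩ : ∃ c, c * a * c⁻¹ = a⁻¹ ∧ π c = π c0 := ⟨q * c0, by
    have : c0 * a * c0⁻¹ = a⁻¹ * (q⁻¹ * (a * q * a⁻¹))⁻¹ := by rw [hq']; group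
    calc q * c0 * a * (q * c0)⁻¹ = q * (c0 * a * c0⁻¹) * q⁻¹ := by group
      _ = q * (a⁻¹ * (a * q⁻¹ * a⁻¹ * q)) * q⁻¹ := by rw [this]; group
      _ = a⁻¹ := by group, by rw [map_mul, show π q = 1 from q2, one_mul]⟩
  rw [← hπ] at h4 h5 h6 h7 h8
  have c2 : c * c = 1 := hf _ (by simpa using h4) (by
    have : c * a⁻¹ * c⁻¹ = a := by rw [← conj_inv, hc, inv_inv]
    calc a * (c * c) * a⁻¹ = (c * a⁻¹ * c⁻¹) * (c * c) * a⁻¹ := by rw [this]
      _ = c * a⁻¹ * c * a⁻¹ := by group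
      _ = c * (c * a * c⁻¹) * c * a⁻¹ := by rw [hc]
      _ = c * c := by group)
  have o3 : ∀ {g : G}, π g ≠ 1 → π g ^ 3 = 1 → g ^ 3 = 1 := fun e e' =>
    cube_of h π e e' ▸ pow_orderOf_eq_one _
  obtain ⟨ψ, -, hψ, -⟩ := Classical.AltHom.moore5_inj (a := a) (b := d * c * d⁻¹) (c := c) a3'
    (by rw [conj_pow, sq, c2]; group) (by rw [sq, c2]) (o3 (by simpa using h5) (by simpa using h6))
    (o3 (by simpa using h7) (by simpa using h8))
    (by
      have : c⁻¹ = c := inv_eq_of_mul_eq_one_right c2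
      calc (a * c) ^ 2 = a * (c * a * c⁻¹) := by rw [this, sq]; group
        _ = 1 := by rw [hc]; group) (fun e => h1 (by simp [e]))
  have hi : Function.Injective (π.comp ψ) := by
    rcases (π.comp ψ).normal_ker.eq_bot_or_eq_top with e | e
    · exact (MonoidHom.ker_eq_bot_iff _).1 e
    · obtain ⟨y, rfl⟩ := hψ
      exact (h1 (show y ∈ (π.comp ψ).ker from e ▸ trivial)).elim
  let f := MulEquiv.ofBijective _ (Finite.injective_iff_bijective.1 hi)
  exact ⟨ψ.comp f.symm.toMonoidHom, fun y => f.apply_symm_apply y⟩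

section Aff

variable {F : Type*} [Field F]

/-- the affine matrix with linear part `A` and translation `v` -/
def aff (A : SL(2, F)) (v : Fin 2 → F) : SL(3, F) :=
  ⟨!![A 0 0, A 0 1, v 0; A 1 0, A 1 1, v 1; 0, 0, 1], by
    have := A.det_coe
    rw [Matrix.det_fin_two] at this
    simp only [Matrix.det_fin_three]
    simpa using this⟩

theorem aff_mul (A B : SL(2, F)) (v w : Fin 2 → F) :
    aff A v * aff B w = aff (A * B) (v + A.1 *ᵥ w) := by
  ext i j
  rw [Matrix.SpecialLinearGroup.coe_mul]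
  fin_cases i <;> fin_cases j <;>
    simp [aff, Matrix.mul_apply, Fin.sum_univ_three, Matrix.mulVec, dotProduct, add_comm]

theorem aff_eq_one {A : SL(2, F)} {v : Fin 2 → F} (h : aff A v = 1) : A = 1 ∧ v = 0 := by
  have e := fun i j => congrFun (congrFun (congrArg Subtype.val h) i) j
  refine ⟨?_, ?_⟩
  · ext i j
    fin_cases i <;> fin_cases j
    exacts [by simpa [aff] using e 0 0, by simpa [aff] using e 0 1, by simpa [aff] using e 1 0,
      by simpa [aff] using e 1 1]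
  · ext i
    fin_cases i
    exacts [by simpa [aff] using e 0 2, by simpa [aff] using e 1 2]

theorem aff_one : aff (1 : SL(2, F)) 0 = 1 := by
  ext i j
  fin_cases i <;> fin_cases j <;> simp [aff]

theorem exists_aff {M : SL(3, F)} (h : M.1 2 0 = 0 ∧ M.1 2 1 = 0 ∧ M.1 2 2 = 1) :
    ∃ A v, M = aff A v := by
  have := M.det_coe
  rw [Matrix.det_fin_three, h.1, h.2.1, h.2.2] at this
  refine ⟨⟨!![M.1 0 0, M.1 0 1; M.1 1 0, M.1 1 1], by
    rw [Matrix.det_fin_two_of]; linear_combination this⟩, ![M.1 0 2, M.1 1 2], ?_⟩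
  ext i j
  fin_cases i <;> fin_cases j <;> simp [aff, h.1, h.2.1, h.2.2]

theorem aff_four (h2 : (2 : F) = 0) : ∃ (A : SL(2, F)) (v : Fin 2 → F), orderOf (aff A v) = 4 := by
  let A : SL(2, F) := ⟨!![1, 1; 0, 1], by simp⟩
  have hA : A * A = 1 := by
    ext i j
    rw [Matrix.SpecialLinearGroup.coe_mul]
    fin_cases i <;> fin_cases j <;> simp [A, Matrix.mul_apply, one_add_one_eq_two, h2]
  have e : aff A ![0, 1] ^ 2 = aff 1 ![1, 0] := by
    rw [sq, aff_mul, hA]; congr 1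
    ext i
    fin_cases i <;> simp [A, Matrix.mulVec, dotProduct, one_add_one_eq_two, h2]
  refine ⟨A, ![0, 1], orderOf_eq_prime_pow (p := 2) (n := 1) ?_ ?_⟩
  · rw [pow_one, e]
    exact fun h => by simpa using congrFun (aff_eq_one h).2 0
  · rw [show 2 ^ (1 + 1) = 2 * 2 from rfl, pow_mul, e, sq, aff_mul, ← aff_one]
    congr 1
    · simp
    · ext i
      fin_cases i <;> simp [one_add_one_eq_two, h2]

end Aff

theorem affine (h : ∀ g : G, orderOf g ≤ 5) (h3 : ∃ g : G, orderOf g = 3)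
    (h4 : ∃ g : G, orderOf g = 4) (e : L2 4 (G ⧸ Cfsg.pCore 2 G)) :
    ∃ (F : Type) (_ : Field F) (_ : Fintype F), Fintype.card F = 4 ∧ ∃ φ : G →* SL(3, F),
      φ.range = closure {M : SL(3, F) | M.1 2 0 = 0 ∧ M.1 2 1 = 0 ∧ M.1 2 2 = 1} ∧
      IsPGroup 2 φ.ker ∧ ∃ g, orderOf (φ g) = 4 := by
  classical
  obtain ⟨a5⟩ := L2.a5 (Or.inl e)
  obtain ⟨F, _, _, hF, ⟨f⟩⟩ := e
  obtain ⟨x, hx⟩ := h3
  have hQ : IsPGroup 2 (Cfsg.pCore 2 G) := LocalEven.isPGroup_pCore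
  set Q := Cfsg.pCore 2 G
  have h2 := two_eq_zero hF
  obtain ⟨_, hs⟩ := field_facts (K := F) (n := 2) le_rfl (Nat.card_eq_fintype_card.trans hF)
  let f' := f.trans (Classical.PSL2Basic.slEquivPSL h2).symm
  let π : G →* SL(2, F) := f'.toMonoidHom.comp (QuotientGroup.mk' Q)
  let ρ : G →* alternatingGroup (Fin 5) := a5.toMonoidHom.comp (QuotientGroup.mk' Q)
  have kπ : π.ker = Q := by ext; simp [π]
  have kρ : ρ.ker = Q := by ext; simp [ρ]
  obtain ⟨k, e, he⟩ := higman hs (f'.surjective.comp QuotientGroup.mk_surjective) kπ hQ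
    (x := x) (fun h => by simp [h] at hx) (hx ▸ pow_orderOf_eq_one x) (fpf h hQ hx)
  obtain ⟨σ0, hσ0⟩ := split h ρ (a5.surjective.comp QuotientGroup.mk_surjective) (kρ ▸ hQ)
  let σ : SL(2, F) →* G := σ0.comp (f'.symm.trans a5).toMonoidHom
  have hσ : ∀ y, π (σ y) = y := fun y => by
    have : QuotientGroup.mk' Q (σ y) = f'.symm y := a5.injective (hσ0 _)
    exact (congrArg f' this).trans (f'.apply_symm_apply y)
  have k0 : 0 < k := by
    obtain ⟨g, hg⟩ := h4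
    have g2 : g ^ 2 ∈ Q := by
      have g4 : ρ g ^ 4 = 1 := by rw [← map_pow, ← hg, pow_orderOf_eq_one, map_one]
      rw [← kρ, MonoidHom.mem_ker, map_pow]
      rcases Cfsg.Agent.Max.a5_pow (ρ g) with e | e | e
      · exact e
      · rw [pow_succ, e, one_mul] at g4; simp [g4]
      · rw [pow_succ, g4, one_mul] at e; simp [e]
    refine Nat.pos_of_ne_zero fun hk => ?_
    subst hk
    have : g ^ 2 = 1 := congrArg Subtype.val
      (e.injective (a₁ := ⟨_, g2⟩) (a₂ := 1) (Subsingleton.elim _ _))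
    have := orderOf_dvd_of_pow_eq_one this
    rw [hg] at this
    omega
  have m : ∀ g, g * (σ (π g))⁻¹ ∈ Q := fun g => by
    rw [← kπ, MonoidHom.mem_ker, map_mul, map_inv, hσ, mul_inv_cancel]
  let v : G → Fin 2 → F := fun g => (e ⟨_, m g⟩).toAdd ⟨0, k0⟩
  have hv : ∀ a b, v (a * b) = v a + (π a).1 *ᵥ v b := fun a b => by
    have : (⟨_, m (a * b)⟩ : Q) = ⟨_, m a⟩ * MulAut.conjNormal (σ (π a)) ⟨_, m b⟩ :=
      Subtype.ext (by simp [mul_assoc])
    simp only [v]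
    rw [this, map_mul, toAdd_mul, Pi.add_apply, he, hσ]
  let φ : G →* SL(3, F) := MonoidHom.mk' (fun g => aff (π g) (v g)) fun a b => by
    rw [aff_mul, map_mul, hv]
  have sj : ∀ A w, ∃ g, φ g = aff A w := fun A w => by
    let q := e.symm (Multiplicative.ofAdd (Pi.single ⟨0, k0⟩ w))
    have q1 : π (q * σ A) = A := by rw [map_mul, hσ, show π q = 1 from kπ.ge q.2, one_mul]
    refine ⟨q * σ A, ?_⟩
    have : (⟨_, m (q * σ A)⟩ : Q) = q := Subtype.ext (by simp [q1])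
    change aff _ ((e ⟨_, m _⟩).toAdd _) = _
    rw [this, q1]
    simp [q]
  refine ⟨F, _, _, hF, φ, le_antisymm ?_ ((closure_le _).2 fun M hM => ?_),
    hQ.to_le fun g hg => kπ.le (aff_eq_one hg).1, ?_⟩
  · rintro _ ⟨g, rfl⟩
    exact subset_closure ⟨rfl, rfl, rfl⟩
  · obtain ⟨A, w, rfl⟩ := exists_aff hM
    exact sj A w
  · obtain ⟨A, w, h⟩ := aff_four h2
    obtain ⟨g, hg⟩ := sj A w
    exact ⟨g, hg ▸ h⟩

end Cfsg.Agent.CIT.Sp5
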